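import Cfsg.Agent.H2.FrobeniusKernel

/-!
The regular normal subgroup of a point stabiliser in a Zassenhaus group, and the inversion lemma
for even two-point stabilisers.
-/

set_option autoImplicit false

namespace H59

variable {G Ω : Type*} [Group G] [MulAction G Ω]

theorem exists_point_kernel [Finite G] (h2 : MulAction.IsMultiplyPretransitive G Ω 2)
    (h3 : ∀ g : G, ∀ a b c : Ω, a ≠ b → b ≠ c → a ≠ c → g • a = a → g • b = b → g • c = c → g = 1)
    {a b : Ω} (hab : a ≠ b) (hH : MulAction.stabilizer G a ⊓ MulAction.stabilizer G b ≠ ⊥)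
    (hΩ : ∃ c : Ω, c ≠ a ∧ c ≠ b) :
    ∃ F : Subgroup G, F ≤ MulAction.stabilizer G a ∧ (F.subgroupOf (MulAction.stabilizer G a)).Normal ∧
      ∀ y z : Ω, y ≠ a → z ≠ a → ∃! u : F, (u : G) • y = z := by
  obtain ⟨c, hca, hcb⟩ := hΩ
  have htr : ∀ y, y ≠ a → ∃ g : MulAction.stabilizer G a, (g : G) • b = y := by
    intro y hy
    obtain ⟨g, g1, g2⟩ := (MulAction.is_two_pretransitive_iff.1 h2) hab (Ne.symm hy)
    exact ⟨⟨g, g1⟩, g2⟩
  set A := MulAction.stabilizer G a with hA
  let H : Subgroup A := (MulAction.stabilizer G a ⊓ MulAction.stabilizer G b).subgroupOf A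
  have hmem : ∀ g : A, g ∈ H ↔ (g : G) • b = b := fun g => ⟨fun h => h.2, fun h => ⟨g.2, h⟩⟩
  have hne : ∀ g : A, (g : G) • b ≠ a := fun g h => hab (MulAction.injective (g : G) (h.trans g.2.symm)).symm
  have hFC : Cfsg.IsFrobeniusComplement H := by
    refine ⟨?_, ?_, ?_⟩
    · intro h
      refine hH ((Subgroup.eq_bot_iff_forall _).2 fun x hx => ?_)
      have : (⟨x, hx.1⟩ : A) ∈ H := hx
      rw [h, Subgroup.mem_bot] at this
      exact congrArg Subtype.val this
    · intro h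
      obtain ⟨g, hg⟩ := htr c hca
      have : g ∈ H := h ▸ Subgroup.mem_top g
      exact hcb (hg.symm.trans ((hmem g).1 this))
    · intro g hg
      rw [eq_bot_iff]
      intro x hx
      obtain ⟨hx1, hx2⟩ := Subgroup.mem_inf.1 hx
      rw [Subgroup.mem_pointwise_smul_iff_inv_smul_mem, ← map_inv, MulAut.smul_def, MulAut.conj_apply,
        inv_inv, hmem] at hx2
      rw [Subgroup.mem_bot]
      refine Subtype.ext (h3 x a b ((g : G) • b) hab (fun e => hg ((hmem g).2 e.symm)) (hne g).symm x.2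
        ((hmem x).1 hx1) ?_)
      simp only [Subgroup.coe_mul, Subgroup.coe_inv, mul_smul, inv_smul_eq_iff] at hx2
      exact hx2
  obtain ⟨N, -, hNn, hNc⟩ := H2.exists_kernel hFC
  refine ⟨N.map A.subtype, Subgroup.map_subtype_le N, ?_, ?_⟩
  · rw [Subgroup.subgroupOf, Subgroup.comap_map_eq_self_of_injective A.subtype_injective]
    exact hNn
  · have hfree : ∀ w ∈ N, (w : G) • b = b → w = 1 := fun w hw hwb =>
      Subgroup.disjoint_def.1 hNc.disjoint hw ((hmem w).2 hwb)
    have hsurj : ∀ y, y ≠ a → ∃ u ∈ N, (u : G) • b = y := by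
      intro y hy
      obtain ⟨g, hg⟩ := htr y hy
      obtain ⟨⟨u, h⟩, huh⟩ := hNc.2 g
      refine ⟨u, u.2, ?_⟩
      rw [← hg, ← (show (u : A) * h = g from huh), Subgroup.coe_mul, mul_smul, (hmem h).1 h.2]
    intro y z hy hz
    obtain ⟨u, hu, rfl⟩ := hsurj y hy
    obtain ⟨v, hv, rfl⟩ := hsurj z hz
    refine ⟨⟨((v * u⁻¹ : A) : G), Subgroup.mem_map_of_mem A.subtype (N.mul_mem hv (N.inv_mem hu))⟩, ?_, ?_⟩
    · show (((v : A) : G) * ((u : A) : G)⁻¹) • ((u : G) • b) = _
      rw [← mul_smul, inv_mul_cancel_right]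
    · rintro ⟨_, w, hw, rfl⟩ (h : (w : G) • (u : G) • b = (v : G) • b)
      have h1 := hfree (v⁻¹ * (w * u)) (N.mul_mem (N.inv_mem hv) (N.mul_mem hw hu)) (by
        simp only [Subgroup.coe_mul, Subgroup.coe_inv, mul_smul, h, inv_smul_smul])
      apply Subtype.ext
      show (w : G) = ((v * u⁻¹ : A) : G)
      rw [inv_mul_eq_one] at h1
      rw [h1, mul_inv_cancel_right]

/-- With `n - 1 = 2d` and `d` even, all elements swapping two points are involutions. -/
theorem swap_sq_of_even [Finite G] [Fintype Ω]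
    (h2 : MulAction.IsMultiplyPretransitive G Ω 2)
    (h3 : ∀ g : G, ∀ a b c : Ω, a ≠ b → b ≠ c → a ≠ c → g • a = a → g • b = b → g • c = c → g = 1)
    {a b : Ω} (hab : a ≠ b) (heven : Even (Nat.card ↥(MulAction.stabilizer G a ⊓ MulAction.stabilizer G b)))
    (hd : 2 * Nat.card ↥(MulAction.stabilizer G a ⊓ MulAction.stabilizer G b) ≤ Fintype.card Ω - 2) :
    ∀ x y : Ω, x ≠ y → ∀ g : G, g • x = y → g • y = x → g * g = 1 := by
  classical
  haveI : Fintype G := Fintype.ofFinite G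
  set d := Nat.card ↥(MulAction.stabilizer G a ⊓ MulAction.stabilizer G b) with hddef
  let P := {q : Ω × Ω // q.1 ≠ q.2}
  have hcardst : ∀ q : P, Nat.card ↥(MulAction.stabilizer G q.1.1 ⊓ MulAction.stabilizer G q.1.2) = d := by
    intro q
    obtain ⟨t, t1, t2⟩ := (MulAction.is_two_pretransitive_iff.1 h2) hab q.2
    refine (Nat.card_congr ?_).symm
    exact
      { toFun := fun h => ⟨t * h * t⁻¹, by
          refine ⟨?_, ?_⟩
          · show (t * h * t⁻¹) • q.1.1 = q.1.1
            rw [← t1, mul_smul, mul_smul, inv_smul_smul, h.2.1]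
          · show (t * h * t⁻¹) • q.1.2 = q.1.2
            rw [← t2, mul_smul, mul_smul, inv_smul_smul, h.2.2]⟩
        invFun := fun h => ⟨t⁻¹ * h * t, by
          refine ⟨?_, ?_⟩
          · show (t⁻¹ * h * t) • a = a
            rw [mul_smul, mul_smul, t1, h.2.1, inv_smul_eq_iff, t1]
          · show (t⁻¹ * h * t) • b = b
            rw [mul_smul, mul_smul, t2, h.2.2, inv_smul_eq_iff, t2]⟩
        left_inv := fun h => Subtype.ext (by simp [mul_assoc])
        right_inv := fun h => Subtype.ext (by simp [mul_assoc]) }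
  have hswap : ∀ q : P, Fintype.card {g : G // g • q.1.1 = q.1.2 ∧ g • q.1.2 = q.1.1} ≤ d := by
    intro q
    rw [← Nat.card_eq_fintype_card, ← hcardst q]
    rcases isEmpty_or_nonempty {g : G // g • q.1.1 = q.1.2 ∧ g • q.1.2 = q.1.1} with h | ⟨⟨g0, h0⟩⟩
    · simp
    refine Nat.card_le_card_of_injective (fun g => (⟨g0⁻¹ * g.1, ?_, ?_⟩ :
      ↥(MulAction.stabilizer G q.1.1 ⊓ MulAction.stabilizer G q.1.2))) ?_
    · show (g0⁻¹ * g.1) • q.1.1 = q.1.1
      rw [mul_smul, g.2.1, inv_smul_eq_iff, h0.1]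
    · show (g0⁻¹ * g.1) • q.1.2 = q.1.2
      rw [mul_smul, g.2.2, inv_smul_eq_iff, h0.2]
    · exact fun g g' e => Subtype.ext (mul_left_cancel (congrArg Subtype.val e))
  have hz : ∀ q : P, ∃ z : G, z ≠ 1 ∧ z * z = 1 ∧ z • q.1.1 = q.1.1 ∧ z • q.1.2 = q.1.2 := by
    intro q
    haveI : Fact (Nat.Prime 2) := ⟨Nat.prime_two⟩
    obtain ⟨z, hz⟩ := exists_prime_orderOf_dvd_card'
      (G := ↥(MulAction.stabilizer G q.1.1 ⊓ MulAction.stabilizer G q.1.2)) 2
      (by rw [hcardst q]; exact even_iff_two_dvd.1 heven)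
    rw [← Subgroup.orderOf_coe] at hz
    refine ⟨z, fun e => by rw [e, orderOf_one] at hz; omega, ?_, z.2.1, z.2.2⟩
    have h := pow_orderOf_eq_one (z : G)
    rwa [hz, sq] at h
  choose z hz1 hz2 hzx hzy using hz
  have honly : ∀ (q : P) (c : Ω), z q • c = c → c = q.1.1 ∨ c = q.1.2 := by
    intro q c hc
    by_contra! hne
    exact hz1 q (h3 (z q) q.1.1 q.1.2 c q.2 hne.2.symm hne.1.symm (hzx q) (hzy q) hc)
  let D := Σ q : P, {c : Ω // c ∉ ({q.1.1, q.1.2} : Finset Ω)}
  let R := Σ r : P, {g : G // g • r.1.1 = r.1.2 ∧ g • r.1.2 = r.1.1}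
  let ψ : D → R := fun x => ⟨⟨(x.2.1, z x.1 • x.2.1), fun e => by
      have := x.2.2
      rcases honly x.1 x.2.1 e.symm with h | h <;> simp [h] at this⟩,
    ⟨z x.1, rfl, by rw [← mul_smul, hz2, one_smul]⟩⟩
  have hfib : ∀ r ∈ Finset.univ.image ψ, (Finset.univ.filter (fun x => ψ x = r)).card ≤ 2 := by
    intro r hr
    simp only [Finset.mem_image, Finset.mem_univ, true_and] at hr
    obtain ⟨x₀, rfl⟩ := hr
    have hkey : ∀ x, ψ x = ψ x₀ → z x.1 = z x₀.1 ∧ x.2.1 = x₀.2.1 := fun x hx =>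
      ⟨congrArg (fun r : R => r.2.1) hx, congrArg (fun r : R => r.1.1.1) hx⟩
    have hmem : ∀ x : D, ψ x = ψ x₀ → x.1.1 = x₀.1.1 ∨ x.1.1 = (x₀.1.1.2, x₀.1.1.1) := by
      intro x hx
      have e := (hkey x hx).1
      have h1 := honly x₀.1 x.1.1.1 (by rw [← e]; exact hzx _)
      have h2 := honly x₀.1 x.1.1.2 (by rw [← e]; exact hzy _)
      have h3 := x.1.2
      rcases h1 with h1 | h1 <;> rcases h2 with h2 | h2
      · exact absurd (h1.trans h2.symm) h3
      · exact Or.inl (Prod.ext h1 h2)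
      · exact Or.inr (Prod.ext h1 h2)
      · exact absurd (h1.trans h2.symm) h3
    refine le_trans (Finset.card_le_card_of_injOn (t := {x₀.1.1, (x₀.1.1.2, x₀.1.1.1)})
      (fun x : D => x.1.1) ?_ ?_) (Finset.card_le_two)
    · intro x hx
      simp only [Finset.coe_filter, Finset.mem_univ, true_and, Set.mem_setOf_eq] at hx
      simp only [Finset.coe_insert, Finset.coe_singleton, Set.mem_insert_iff, Set.mem_singleton_iff]
      exact hmem x hx
    · intro x hx y hy hxy
      simp only [Finset.coe_filter, Finset.mem_univ, true_and, Set.mem_setOf_eq] at hx hy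
      have hq : x.1 = y.1 := Subtype.ext hxy
      have hc := (hkey x hx).2.trans (hkey y hy).2.symm
      obtain ⟨q, c, hcm⟩ := x
      obtain ⟨q', c', hcm'⟩ := y
      simp only at hq hc
      subst hq hc
      rfl
  have hle := Finset.card_le_mul_card_image (f := ψ) Finset.univ 2 hfib
  rw [Finset.card_univ] at hle
  have hD : Fintype.card D = Fintype.card P * (Fintype.card Ω - 2) := by
    rw [Fintype.card_sigma, Finset.sum_const_nat (m := Fintype.card Ω - 2), Finset.card_univ]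
    intro q _
    rw [Fintype.card_subtype_compl, Fintype.card_coe, Finset.card_pair q.2]
  have hR : Fintype.card R ≤ Fintype.card P * d := by
    rw [Fintype.card_sigma, ← Finset.card_univ]
    exact (Finset.sum_le_card_nsmul _ _ _ (fun q _ => hswap q)).trans_eq (smul_eq_mul ..)
  rw [hD] at hle
  have h4 : Fintype.card P * (2 * d) ≤ Fintype.card P * (Fintype.card Ω - 2) := Nat.mul_le_mul_left _ hd
  have heq : Finset.univ.image ψ = Finset.univ := by
    refine Finset.eq_univ_of_card _ (le_antisymm (Finset.card_le_univ _) ?_)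
    have : Fintype.card P * (2 * d) = 2 * (Fintype.card P * d) := by ring
    omega
  intro x y hxy g hgx hgy
  have hg : (⟨⟨(x, y), hxy⟩, ⟨g, hgx, hgy⟩⟩ : R) ∈ Finset.univ.image ψ := heq ▸ Finset.mem_univ _
  obtain ⟨w, -, hw⟩ := Finset.mem_image.1 hg
  have e : z w.1 = g := congrArg (fun r : R => r.2.1) hw
  rw [← e]; exact hz2 _

end H59
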