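import Cfsg.Agent.H59.SharpThree
import Cfsg.Agent.H59.ZKernel
import Cfsg.Agent.H37.Card
import Cfsg.Agent.S0738
import Mathlib.RingTheory.LittleWedderburn

/-!
Zassenhaus groups with abelian kernel of order `2d + 1` and inverted commutative two-point
stabiliser are `PSL(2, K)`.
-/

set_option autoImplicit false
open scoped LinearAlgebra.Projectivization MatrixGroups IsMulCommutative
open Matrix

namespace H59

universe u v

/-- a commutative fixed-point-free group of half the size gives a field -/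
theorem exists_half_field {V : Type v} [AddCommGroup V] [Finite V] {H : Type u} [Group H] [Finite H]
    (Δ : H →* AddMonoid.End V) (hcomm : ∀ x y : H, x * y = y * x)
    (hfpf : ∀ h : H, h ≠ 1 → ∀ x : V, Δ h x = x → x = 0)
    (hcard : 2 * Nat.card H + 1 = Nat.card V) :
    ∃ (K : Type) (_ : Field K) (_ : Fintype K) (ψ : K ≃+ V) (μ : H →* K),
      (∀ h x, Δ h (ψ x) = ψ (μ h * x)) ∧ Function.Injective μ ∧ Nat.card K = Nat.card V := by
  classical
  let R : Subring (AddMonoid.End V) := Subring.closure (Set.range Δ)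
  have hmem : ∀ h, Δ h ∈ R := fun h => Subring.subset_closure ⟨h, rfl⟩
  have hcR : ∀ f ∈ R, ∀ h, f * Δ h = Δ h * f := by
    intro f hf h
    have : R ≤ Subring.centralizer {Δ h} := by
      rw [Subring.closure_le]
      rintro _ ⟨k, rfl⟩
      refine Subring.mem_centralizer_iff.2 fun g hg => ?_
      rw [Set.mem_singleton_iff] at hg
      rw [hg, ← map_mul, ← map_mul, hcomm]
    exact (Subring.mem_centralizer_iff.1 (this hf) _ rfl).symm
  have hirr : ∀ W : AddSubgroup V, (∀ h, ∀ x ∈ W, Δ h x ∈ W) → W = ⊥ ∨ W = ⊤ := by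
    intro W hW
    by_contra! hne
    obtain ⟨⟨x, hx⟩, hx0'⟩ := (AddSubgroup.ne_bot_iff_exists_ne_zero).1 hne.1
    have hx0 : x ≠ 0 := fun e => hx0' (Subtype.ext e)
    have hΔx : ∀ h, Δ h x ≠ 0 := fun h e => hx0 (by
      have := congrArg (Δ h⁻¹) e
      rw [map_zero] at this
      have e2 : (Δ h⁻¹ * Δ h) x = 0 := this
      rwa [← map_mul, inv_mul_cancel, map_one] at e2)
    have hlow : Nat.card H + 1 ≤ Nat.card W := by
      rw [← Finite.card_option]
      refine Nat.card_le_card_of_injective (fun o => o.elim (0 : W) fun h => ⟨_, hW h x hx⟩) ?_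
      rintro (_ | h) (_ | k) e
      · rfl
      · exact absurd (congrArg Subtype.val e).symm (hΔx k)
      · exact absurd (congrArg Subtype.val e) (hΔx h)
      · by_contra hne'
        refine hx0 (hfpf (k⁻¹ * h) (fun e' => hne' (by rw [inv_mul_eq_one.1 e'])) x ?_)
        rw [map_mul]
        show Δ k⁻¹ (Δ h x) = x
        rw [show Δ h x = Δ k x from congrArg Subtype.val e]
        show (Δ k⁻¹ * Δ k) x = x
        rw [← map_mul, inv_mul_cancel, map_one]; rfl
    have h := W.card_mul_index
    have hi : 2 ≤ W.index := by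
      have := AddSubgroup.index_ne_zero_of_finite (H := W)
      have : W.index ≠ 1 := fun h1 => hne.2 (AddSubgroup.index_eq_one.1 h1)
      omega
    have : Nat.card W * 2 ≤ Nat.card W * W.index := Nat.mul_le_mul_left _ hi
    omega
  haveI : Finite (AddMonoid.End V) :=
    Finite.of_injective (fun f : AddMonoid.End V => (f : V → V)) DFunLike.coe_injective
  have hinjR : ∀ f : R, f ≠ 0 → Function.Injective (f : AddMonoid.End V) := by
    intro f hf
    let W : AddSubgroup V :=
      { carrier := {x | (f : AddMonoid.End V) x = 0}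
        zero_mem' := map_zero (f : AddMonoid.End V)
        add_mem' := fun {x y} (hx : (f : AddMonoid.End V) x = 0) (hy : (f : AddMonoid.End V) y = 0) => by
          show (f : AddMonoid.End V) (x + y) = 0
          rw [map_add, hx, hy, add_zero]
        neg_mem' := fun {x} (hx : (f : AddMonoid.End V) x = 0) => by
          show (f : AddMonoid.End V) (-x) = 0
          rw [map_neg, hx, neg_zero] }
    rcases hirr W (fun h x (hx : (f : AddMonoid.End V) x = 0) => by
      show ((f : AddMonoid.End V) * Δ h) x = 0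
      rw [hcR f f.2]
      show Δ h ((f : AddMonoid.End V) x) = 0
      rw [hx, map_zero]) with h | h
    · intro x y hxy
      have : x - y ∈ W := by show (f : AddMonoid.End V) (x - y) = 0; rw [map_sub, hxy, sub_self]
      rw [h, AddSubgroup.mem_bot, sub_eq_zero] at this
      exact this
    · refine absurd (show f = 0 from Subtype.ext (AddMonoidHom.ext fun x => ?_)) hf
      show (f : AddMonoid.End V) x = 0
      exact (h.symm ▸ AddSubgroup.mem_top x : x ∈ W)
  haveI : NoZeroDivisors R := ⟨fun {f g} h => by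
    by_contra hne
    push Not at hne
    refine hne.2 (Subtype.ext (AddMonoidHom.ext fun x => hinjR f hne.1 ?_))
    show ((f * g : R) : AddMonoid.End V) x = (f : AddMonoid.End V) 0
    rw [h, map_zero]; rfl⟩
  have hH0 : 0 < Nat.card H := Nat.card_pos
  haveI : Nontrivial V := Finite.one_lt_card_iff_nontrivial.1 (by omega)
  obtain ⟨e, he⟩ := exists_ne (0 : V)
  haveI : Nontrivial R := ⟨⟨0, 1, fun h => he (congrArg (fun f : R => (f : AddMonoid.End V) e) h).symm⟩⟩
  haveI : IsDomain R := NoZeroDivisors.to_isDomain R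
  letI : Field R := (Finite.isDomain_to_isField R).toField
  haveI : Fintype R := Fintype.ofFinite R
  let ev : R →+ V :=
    { toFun := fun f => (f : AddMonoid.End V) e
      map_zero' := rfl
      map_add' := fun f g => rfl }
  have hev : Function.Bijective ev := by
    refine ⟨(injective_iff_map_eq_zero ev).2 fun f hf => by_contra fun hne => he (hinjR f hne ?_), ?_⟩
    · rw [map_zero]; exact hf
    rcases hirr ev.range (fun h x ⟨f, hf⟩ => ⟨⟨Δ h, hmem h⟩ * f, by rw [← hf]; rfl⟩) with h | h
    · exfalso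
      have : e ∈ ev.range := ⟨1, rfl⟩
      rw [h, AddSubgroup.mem_bot] at this
      exact he this
    · exact AddMonoidHom.range_eq_top.1 h
  obtain ⟨K, FK, FtK, ⟨r⟩⟩ := exists_small_field (Y := R)
  let ψ : K ≃+ V := r.toAddEquiv.trans (AddEquiv.ofBijective ev hev)
  let μ : H →* K :=
    { toFun := fun h => r.symm ⟨Δ h, hmem h⟩
      map_one' := (congrArg r.symm (Subtype.ext (map_one Δ))).trans (map_one r.symm)
      map_mul' := fun h k => (congrArg r.symm (Subtype.ext (map_mul Δ h k))).trans (map_mul r.symm _ _) }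
  refine ⟨K, FK, FtK, ψ, μ, ?_, ?_, Nat.card_congr ψ.toEquiv⟩
  · intro h x
    show Δ h (((r x : R) : AddMonoid.End V) e) = ((r (μ h * x) : R) : AddMonoid.End V) e
    rw [map_mul, show r (μ h) = ⟨Δ h, hmem h⟩ from r.apply_symm_apply _]
    rfl
  · intro h k hk
    have h1 : Δ h = Δ k := congrArg Subtype.val (r.symm.injective hk)
    by_contra hne
    refine he (hfpf (k⁻¹ * h) (fun e' => hne (inv_mul_eq_one.1 e').symm) e ?_)
    rw [map_mul, h1, ← map_mul, inv_mul_cancel, map_one]; rfl

/-- in a field with `2d + 1` elements, a group of `d` units consists of the squares -/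
theorem half_units_eq_squares {K : Type*} [Field K] [Fintype K] {H : Type*} [Group H] [Finite H]
    (μ : H →* K) (hμ : Function.Injective μ) (hcard : 2 * Nat.card H + 1 = Nat.card K) :
    (∀ h, ∃ m, m ≠ 0 ∧ μ h = m * m) ∧ ∀ m, m ≠ 0 → ∃ h, μ h = m * m := by
  classical
  let μu : H →* Kˣ := μ.toHomUnits
  have hμu : Function.Injective μu := fun h k e => hμ (congrArg Units.val e)
  let sqm : Kˣ →* Kˣ := powMonoidHom 2
  have hunits : Nat.card Kˣ = 2 * Nat.card H := by
    rw [Nat.card_eq_fintype_card, Fintype.card_units, ← Nat.card_eq_fintype_card]; omega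
  have hS : Nat.card μu.range = Nat.card H := (Nat.card_congr (MonoidHom.ofInjective hμu).toEquiv).symm
  have hidx : μu.range.index = 2 := by
    have h := μu.range.card_mul_index
    rw [hS, hunits, mul_comm 2] at h
    exact Nat.eq_of_mul_eq_mul_left Nat.card_pos h
  have hle : sqm.range ≤ μu.range := by
    rintro _ ⟨x, rfl⟩
    have := μu.range.pow_index_mem x
    rwa [hidx] at this
  have hker : Nat.card sqm.ker ≤ 2 := by
    refine le_trans (Nat.card_le_card_of_injective
      (fun x : sqm.ker => decide (((x : Kˣ) : K) = 1)) ?_) (by simp)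
    intro x y hxy
    simp only [decide_eq_decide] at hxy
    have key : ∀ z : sqm.ker, ((z : Kˣ) : K) = 1 ∨ ((z : Kˣ) : K) = -1 := fun z => by
      have hz : (z : Kˣ) ^ 2 = 1 := z.2
      have := congrArg Units.val hz
      rw [Units.val_pow_eq_pow_val, Units.val_one, sq] at this
      exact mul_self_eq_one_iff.1 this
    refine Subtype.ext (Units.ext ?_)
    rcases key x with h | h <;> rcases key y with h' | h'
    · rw [h, h']
    · rw [h, hxy.1 h]
    · rw [hxy.2 h', h']
    · rw [h, h']
  have heq : sqm.range = μu.range := by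
    refine Subgroup.eq_of_le_of_card_ge hle ?_
    rw [hS]
    have h := Subgroup.card_mul_index sqm.ker
    rw [Subgroup.index_ker, hunits] at h
    have : Nat.card sqm.ker * Nat.card sqm.range ≤ 2 * Nat.card sqm.range := Nat.mul_le_mul_right _ hker
    omega
  refine ⟨fun h => ?_, fun m hm => ?_⟩
  · obtain ⟨x, hx⟩ : μu h ∈ sqm.range := heq ▸ ⟨h, rfl⟩
    exact ⟨x, x.ne_zero, by rw [← sq]; exact (congrArg Units.val hx).symm⟩
  · obtain ⟨h, hh⟩ : sqm (Units.mk0 m hm) ∈ μu.range := heq ▸ ⟨_, rfl⟩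
    exact ⟨h, by rw [← sq]; exact congrArg Units.val hh⟩

/-- some nonsquare is one less than a nonzero square -/
theorem exists_nonsquare_add_one_square {K : Type*} [Field K] [Fintype K] (h2 : (2 : K) ≠ 0)
    (h5 : 5 ≤ Fintype.card K) :
    ∃ t w : K, ¬ IsSquare t ∧ w ≠ 0 ∧ t + 1 = w * w := by
  classical
  obtain ⟨c, hc⟩ := FiniteField.exists_nonsquare (F := K)
    (fun h => h2 (by haveI := ringChar.of_eq h; exact CharTwo.two_eq_zero))
  obtain ⟨u, hu0, hu1⟩ : ∃ u : K, u ≠ 0 ∧ 1 + c * (u * u) ≠ 0 := by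
    by_contra! hcon
    have hsub : (Finset.univ.erase (0 : K)).card ≤ 2 := by
      rcases (Finset.univ.erase (0 : K)).eq_empty_or_nonempty with h | ⟨u₀, hu₀⟩
      · rw [h]; simp
      · refine le_trans (Finset.card_le_card (t := {u₀, -u₀}) fun u hu => ?_) Finset.card_le_two
        have h1 := hcon u (Finset.ne_of_mem_erase hu)
        have h0 := hcon u₀ (Finset.ne_of_mem_erase hu₀)
        have h4 : c * (u * u - u₀ * u₀) = 0 := by linear_combination h1 - h0
        have hc0 : c ≠ 0 := fun e => hc (e ▸ IsSquare.zero)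
        rcases mul_self_eq_mul_self_iff.1 (sub_eq_zero.1 ((mul_eq_zero.1 h4).resolve_left hc0)) with e | e
        · simp [e]
        · simp [e]
    rw [Finset.card_erase_of_mem (Finset.mem_univ _), Finset.card_univ] at hsub
    omega
  have hd : 1 - c * (u * u) ≠ 0 := fun h => hc ⟨u⁻¹, by field_simp; linear_combination -h⟩
  refine ⟨c * ((2 * u / (1 - c * (u * u))) * (2 * u / (1 - c * (u * u)))),
    (1 + c * (u * u)) / (1 - c * (u * u)), ?_, div_ne_zero hu1 hd, by
      have hd' : 1 - c * u ^ 2 ≠ 0 := by rw [sq]; exact hd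
      field_simp
      ring⟩
  rintro ⟨r, hr⟩
  set y := 2 * u / (1 - c * (u * u))
  have hy : y ≠ 0 := div_ne_zero (mul_ne_zero h2 hu0) hd
  exact hc ⟨r / y, by field_simp; linear_combination hr⟩

variable {G : Type u} [Group G] {Ω : Type v} [MulAction G Ω]

/-- projective-line transformations of square determinant -/
theorem exists_psl {K : Type*} [Field K] (A : Matrix (Fin 2) (Fin 2) K) (hA : A.det = 1) :
    ∃ M : Matrix.ProjectiveSpecialLinearGroup (Fin 2) K, ∀ (v : Fin 2 → K) (hv : v ≠ 0)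
      (w : Fin 2 → K) (hw : w ≠ 0), (∃ r : K, r • w = A *ᵥ v) →
      Matrix.ProjectiveSpecialLinearGroup.toPGL M • Projectivization.mk K v hv = Projectivization.mk K w hw := by
  refine ⟨QuotientGroup.mk ⟨A, hA⟩, fun v hv w hw hr => ?_⟩
  obtain ⟨r, hr⟩ := hr
  exact (Projectivization.mk_eq_mk_iff' K _ _ _ _).2 ⟨r, hr⟩

/-- the coordinates of a Zassenhaus group with half-size two-point stabiliser -/
theorem exists_field_coord [Finite G] [Fintype Ω] (hZ : Cfsg.IsZassenhausGroup G Ω) {a b : Ω} (hab : a ≠ b)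
    (hd : Fintype.card Ω = 2 * Nat.card ↥(MulAction.stabilizer G a ⊓ MulAction.stabilizer G b) + 2)
    (hcomm : ∀ x ∈ MulAction.stabilizer G a ⊓ MulAction.stabilizer G b,
      ∀ y ∈ MulAction.stabilizer G a ⊓ MulAction.stabilizer G b, x * y = y * x) :
    ∃ (K : Type) (_ : Field K) (_ : Fintype K) (p : Option K ≃ Ω), p none = a ∧ p (some 0) = b ∧
      Fintype.card K + 1 = Fintype.card Ω ∧ (2 : K) ≠ 0 ∧ 5 ≤ Fintype.card K ∧
      (∀ m c : K, m ≠ 0 → ∃ g : G, g • a = a ∧ ∀ x : K, g • p (some x) = p (some (m * m * x + c))) ∧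
      (∀ g : G, g • a = a → ∃ m c : K, m ≠ 0 ∧ ∀ x : K, g • p (some x) = p (some (m * m * x + c))) := by
  classical
  set H := MulAction.stabilizer G a ⊓ MulAction.stabilizer G b with hH
  obtain ⟨hF, h2, h3, ⟨g0, hg0, a0, b0, hab0, ha0, hb0⟩, -⟩ := id hZ
  have hH1 : H ≠ ⊥ := by
    intro h
    obtain ⟨t, t1, t2⟩ := (MulAction.is_two_pretransitive_iff.1 h2) hab0 hab
    have : t * g0 * t⁻¹ ∈ H := by
      refine ⟨?_, ?_⟩
      · show (t * g0 * t⁻¹) • a = a
        rw [← t1, mul_smul, mul_smul, inv_smul_smul, ha0]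
      · show (t * g0 * t⁻¹) • b = b
        rw [← t2, mul_smul, mul_smul, inv_smul_smul, hb0]
    rw [h, Subgroup.mem_bot, conj_eq_one_iff] at this
    exact hg0 this
  have hdH : 2 ≤ Nat.card H := by
    have : Nat.card H ≠ 1 := fun h => hH1 (Subgroup.card_eq_one.1 h)
    have : 0 < Nat.card H := Nat.card_pos
    omega
  obtain ⟨c0, hc0⟩ : ∃ c : Ω, c ∉ ({a, b} : Finset Ω) := by
    have h := Finset.card_compl ({a, b} : Finset Ω)
    rw [Finset.card_pair hab] at h
    obtain ⟨c, hc⟩ := Finset.card_pos.1 (show 0 < ({a, b} : Finset Ω)ᶜ.card by omega)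
    exact ⟨c, Finset.mem_compl.1 hc⟩
  obtain ⟨F, hFle, hFn, hreg⟩ := exists_point_kernel h2 h3 hab hH1 ⟨c0, by simp at hc0; exact hc0⟩
  obtain ⟨hFab, p, f, hp, -, hpf⟩ := Cfsg.Agent.S0738.result hZ hab
    (by rw [← hH]; omega) F hFle hFn hreg
  haveI := hFab
  have hnF : Nat.card F = 2 * Nat.card H + 1 := by
    let e : F → {y : Ω // y ≠ a} := fun u => ⟨(u : G) • b, fun h => hab.symm
      (MulAction.injective (u : G) (h.trans (hFle u.2).symm))⟩
    have he : Function.Bijective e := by
      refine ⟨fun u v h => ?_, fun y => ?_⟩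
      · obtain ⟨w, -, hw⟩ := hreg b ((u : G) • b) hab.symm (e u).2
        exact (hw u rfl).trans (hw v (congrArg Subtype.val h).symm).symm
      · obtain ⟨u, hu, -⟩ := hreg b y hab.symm y.2
        exact ⟨u, Subtype.ext hu⟩
    rw [Nat.card_eq_of_bijective e he, Nat.card_eq_fintype_card, Fintype.card_subtype_compl,
      Fintype.card_subtype_eq]
    omega
  have hconj : ∀ g ∈ MulAction.stabilizer G a, ∀ u ∈ F, g * u * g⁻¹ ∈ F := fun g hg u hu =>
    hFn.conj_mem ⟨u, hFle hu⟩ hu ⟨g, hg⟩
  let Δ : H →* AddMonoid.End (Additive F) :=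
    { toFun := fun h => MonoidHom.toAdditive
        ({ toFun := fun u => ⟨h * u * (h : G)⁻¹, hconj h h.2.1 u u.2⟩
           map_one' := Subtype.ext (by simp)
           map_mul' := fun u v => Subtype.ext (by simp [mul_assoc]) } : F →* F)
      map_one' := AddMonoidHom.ext fun x => Additive.toMul.injective (Subtype.ext (by
        show ((1 : H) : G) * (x.toMul : G) * ((1 : H) : G)⁻¹ = x.toMul
        simp))
      map_mul' := fun g h => AddMonoidHom.ext fun x => Additive.toMul.injective (Subtype.ext (by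
        show ((g * h : H) : G) * (x.toMul : G) * ((g * h : H) : G)⁻¹ =
          g * ((h : G) * (x.toMul : G) * (h : G)⁻¹) * (g : G)⁻¹
        simp [mul_assoc])) }
  have hΔ : ∀ (h : H) (u : Additive F), ((Δ h u).toMul : G) = h * (u.toMul : G) * (h : G)⁻¹ := fun h u => rfl
  have hequiv : ∀ (h : H) (u : Additive F), ((Δ h u).toMul : G) • b = (h : G) • (u.toMul : G) • b := by
    intro h u
    rw [hΔ, mul_smul, mul_smul, inv_smul_eq_iff.2 h.2.2.symm]
  obtain ⟨K, FK, FtK, ψ, μ, hψ, hμ, hK⟩ := exists_half_field Δ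
    (fun x y => Subtype.ext (hcomm x x.2 y y.2))
    (fun h hh x hx => by
      by_contra hx0
      have hu1 : (x.toMul : G) ≠ 1 := fun e => hx0 (Additive.toMul.injective (Subtype.ext e))
      have hne : (x.toMul : G) • b ≠ b := fun e => by
        obtain ⟨w, -, hw⟩ := hreg b b hab.symm hab.symm
        exact hu1 (congrArg Subtype.val ((hw x.toMul e).trans (hw 1 (one_smul _ _)).symm))
      refine hh (Subtype.ext (h3 h a b ((x.toMul : G) • b) hab hne.symm (fun e => hab
        (MulAction.injective (x.toMul : G) ((hFle x.toMul.2).trans e))) h.2.1 h.2.2 ?_))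
      rw [← hequiv, hx])
    (by rw [Nat.card_congr Additive.toMul]; omega)
  have hK' : Nat.card K = 2 * Nat.card H + 1 := by rw [hK, Nat.card_congr Additive.toMul, hnF]
  obtain ⟨hsq1, hsq2⟩ := half_units_eq_squares μ hμ (by omega)
  let e : K → {y : Ω // y ≠ a} := fun x => ⟨((ψ x).toMul : G) • b, fun h => hab.symm
    (MulAction.injective ((ψ x).toMul : G) (h.trans (hFle (ψ x).toMul.2).symm))⟩
  have he : Function.Bijective e := by
    refine ⟨fun x y h => ψ.injective (Additive.toMul.injective ?_), fun y => ?_⟩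
    · obtain ⟨w, -, hw⟩ := hreg b (e x) hab.symm (e x).2
      exact (hw _ rfl).trans (hw _ (congrArg Subtype.val h).symm).symm
    · obtain ⟨u, hu, -⟩ := hreg b y hab.symm y.2
      obtain ⟨x, hx⟩ := ψ.surjective (Additive.ofMul u)
      exact ⟨x, Subtype.ext (by show ((ψ x).toMul : G) • b = y; rw [hx]; exact hu)⟩
  let q : Option K ≃ Ω := (Equiv.optionCongr (Equiv.ofBijective e he)).trans (Equiv.optionSubtypeNe a)
  have hq : ∀ x, q (some x) = ((ψ x).toMul : G) • b := fun x => rfl
  have hμact : ∀ (h : H) (x : K), (h : G) • q (some x) = q (some (μ h * x)) := by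
    intro h x
    rw [hq, hq, ← hequiv, hψ]
  have htr : ∀ c x : K, ((ψ c).toMul : G) • q (some x) = q (some (x + c)) := by
    intro c x
    rw [hq, hq, ← mul_smul, ← Subgroup.coe_mul, ← toMul_add, ← map_add, add_comm]
  have hcardK : Fintype.card K = 2 * Nat.card H + 1 := by rw [← Nat.card_eq_fintype_card, hK']
  refine ⟨K, FK, FtK, q, rfl, ?_, by omega, ?_, by omega, ?_, ?_⟩
  · rw [hq, map_zero]; exact one_smul G b
  · intro h2K
    haveI := CharTwo.of_one_ne_zero_of_two_eq_zero (R := K) one_ne_zero h2K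
    have h2p : (2 : ℕ) ∣ Fintype.card K := by
      obtain ⟨n, -, hn⟩ := FiniteField.card K 2
      rw [hn]; exact dvd_pow_self 2 n.pos.ne'
    omega
  · intro m c hm
    obtain ⟨h, hh⟩ := hsq2 m hm
    refine ⟨((ψ c).toMul : G) * h, ?_, fun x => ?_⟩
    · rw [mul_smul, h.2.1]; exact hFle (ψ c).toMul.2
    · rw [mul_smul, hμact, htr, hh]
  · intro g hg
    have hgb : g • b ≠ a := fun h => hab.symm (MulAction.injective g (h.trans hg.symm))
    obtain ⟨c, hc⟩ := he.2 ⟨g • b, hgb⟩
    have hc' : ((ψ c).toMul : G) • b = g • b := congrArg Subtype.val hc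
    let h : H := ⟨((ψ c).toMul : G)⁻¹ * g, (Subgroup.mul_mem _ (Subgroup.inv_mem _ (hFle (ψ c).toMul.2)) hg), by
      show (((ψ c).toMul : G)⁻¹ * g) • b = b
      rw [mul_smul, ← hc', inv_smul_smul]⟩
    obtain ⟨m, hm0, hm⟩ := hsq1 h
    refine ⟨m, c, hm0, fun x => ?_⟩
    rw [← hm, ← htr, ← hμact, ← mul_smul, mul_inv_cancel_left]

/-- Zassenhaus: `2d + 2` points, commutative two-point stabiliser inverted by a swapping involution
gives `PSL(2, K)`. -/
theorem half_PSL [Finite G] [Fintype Ω] (hZ : Cfsg.IsZassenhausGroup G Ω) {a b : Ω} (hab : a ≠ b)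
    (hd : Fintype.card Ω = 2 * Nat.card ↥(MulAction.stabilizer G a ⊓ MulAction.stabilizer G b) + 2)
    {s : G} (hsa : s • a = b) (hsb : s • b = a) (hs2 : s * s = 1)
    (hcomm : ∀ x ∈ MulAction.stabilizer G a ⊓ MulAction.stabilizer G b,
      ∀ y ∈ MulAction.stabilizer G a ⊓ MulAction.stabilizer G b, x * y = y * x)
    (hinv : ∀ h ∈ MulAction.stabilizer G a ⊓ MulAction.stabilizer G b, s * h * s⁻¹ = h⁻¹) :
    ∃ (K : Type) (_ : Field K) (_ : Fintype K), (2 : K) ≠ 0 ∧ Fintype.card K + 1 = Fintype.card Ω ∧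
      Nonempty (G ≃* Matrix.ProjectiveSpecialLinearGroup (Fin 2) K) := by
  classical
  obtain ⟨K, FK, FtK, p, hpa, hpb, hcard, h2K, h5, hA, hB⟩ := exists_field_coord hZ hab hd hcomm
  obtain ⟨hFaith, h2, h3, -, -⟩ := hZ
  subst hpa hpb
  have hj : ∀ x : K, x ≠ 0 → ∃ y : K, y ≠ 0 ∧ s • p (some x) = p (some y) := by
    intro x hx
    rcases hy : p.symm (s • p (some x)) with _ | y
    · exfalso
      rw [Equiv.symm_apply_eq, ← hsb] at hy
      exact hx (Option.some.inj (p.injective (MulAction.injective s hy)))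
    · rw [Equiv.symm_apply_eq] at hy
      refine ⟨y, fun h => ?_, hy⟩
      subst h
      rw [← hsa] at hy
      simpa using p.injective (MulAction.injective s hy)
  choose! j hj0 hj using hj
  have hss : ∀ z : Ω, s • s • z = z := fun z => by rw [← mul_smul, hs2, one_smul]
  have hjj : ∀ x, x ≠ 0 → j (j x) = x := fun x hx => by
    have := hss (p (some x))
    rw [hj x hx, hj _ (hj0 x hx)] at this
    exact Option.some.inj (p.injective this)
  have hjm : ∀ m x : K, m ≠ 0 → x ≠ 0 → j (m * m * x) * (m * m) = j x := by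
    intro m x hm hx
    obtain ⟨g, hga, hg⟩ := hA m 0 hm
    have hgb : g • p (some 0) = p (some 0) := by rw [hg, mul_zero, add_zero]
    have hsg := hinv g ⟨hga, hgb⟩
    rw [mul_inv_eq_iff_eq_mul] at hsg
    have h := congrArg (fun z : G => g • z • p (some x)) hsg
    simp only [mul_smul, smul_inv_smul] at h
    rw [hg, add_zero, hj _ (mul_ne_zero (mul_ne_zero hm hm) hx), hj x hx, hg, add_zero] at h
    have h' := Option.some.inj (p.injective h)
    rw [← h']; ring
  let γ : K → K := fun x => x * j x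
  have hγm : ∀ m x : K, m ≠ 0 → x ≠ 0 → γ (m * m * x) = γ x := fun m x hm hx => by
    show m * m * x * j (m * m * x) = x * j x
    rw [← hjm m x hm hx]; ring
  have hγj : ∀ x : K, x ≠ 0 → γ (j x) = γ x := fun x hx => by
    show j x * j (j x) = x * j x
    rw [hjj x hx, mul_comm]
  have hj' : ∀ x : K, x ≠ 0 → j x = γ x / x := fun x hx => by
    show j x = x * j x / x
    field_simp
  have hγ0 : ∀ x : K, x ≠ 0 → γ x ≠ 0 := fun x hx => mul_ne_zero hx (hj0 x hx)
  set α := γ 1 with hαdef
  have hα0 : α ≠ 0 := hγ0 1 one_ne_zero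
  have hsqα : ∀ x : K, x ≠ 0 → IsSquare x → γ x = α := by
    rintro x hx ⟨m, rfl⟩
    have := hγm m 1 (fun e => hx (by rw [e, mul_zero])) one_ne_zero
    rwa [mul_one] at this
  have hnsq : ∀ x y : K, ¬ IsSquare x → ¬ IsSquare y → γ x = γ y := by
    intro x y hx hy
    have hx0 : x ≠ 0 := fun e => hx (e ▸ IsSquare.zero)
    have hy0 : y ≠ 0 := fun e => hy (e ▸ IsSquare.zero)
    obtain ⟨r, hr⟩ : IsSquare (x * y) := by
      rw [← quadraticChar_one_iff_isSquare (mul_ne_zero hx0 hy0), map_mul,
        quadraticChar_neg_one_iff_not_isSquare.2 hx, quadraticChar_neg_one_iff_not_isSquare.2 hy]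
      rfl
    obtain ⟨m, hm⟩ : ∃ m, x / y = m * m := ⟨r / y, by field_simp; linear_combination hr⟩
    have hm0 : m ≠ 0 := fun e => div_ne_zero hx0 hy0 (by rw [hm, e, mul_zero])
    rw [← hγm m y hm0 hy0, ← hm, div_mul_cancel₀ x hy0]
  -- the composite `s τ s τ s`
  have hm1 : (-1 : K) ≠ 0 := neg_ne_zero.2 one_ne_zero
  obtain ⟨A, C, hA0, hC0, hslope, heq⟩ : ∃ A C : K, (∃ m, m ≠ 0 ∧ A = m * m) ∧
      C * α = -γ (-α) ∧ A * γ (-1) = C ∧
      ∀ t w : K, t ≠ 0 → w ≠ 0 → t + 1 = w * w →
        (A * γ t * α + C * α * t) * (w * w)⁻¹ = -γ (-(α * t)) := by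
    obtain ⟨t1, ht1, hT1⟩ := hA 1 1 one_ne_zero
    obtain ⟨t2, ht2, hT2⟩ := hA 1 (-α) one_ne_zero
    have hj1 : j 1 = α := (one_mul (j 1)).symm
    obtain ⟨m, C, hm, hg⟩ := hB (s * t2 * s * t1 * s) (by
      rw [mul_smul, mul_smul, mul_smul, mul_smul, hsa, hT1, mul_zero, zero_add, hj 1 one_ne_zero, hj1, hT2,
        one_mul, one_mul, add_neg_cancel, hsb])
    have hC : C * α = -γ (-α) := by
      have h := hg 0
      rw [mul_smul, mul_smul, mul_smul, mul_smul, hsb, ht1, hsa, hT2, mul_zero, zero_add,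
        hj _ (neg_ne_zero.2 hα0), mul_zero, zero_add] at h
      rw [← Option.some.inj (p.injective h), hj' _ (neg_ne_zero.2 hα0)]
      field_simp
    refine ⟨m * m, C, ⟨m, hm, rfl⟩, hC, ?_, ?_⟩
    · have h := hg (j (-1))
      rw [mul_smul, mul_smul, mul_smul, mul_smul, hj _ (hj0 _ hm1), hjj _ hm1, hT1, one_mul, one_mul,
        neg_add_cancel, hsb, ht2, hsa] at h
      have h' := Option.some.inj (p.injective h)
      rw [hj' _ hm1, div_neg, div_one] at h'
      linear_combination h'
    · intro t w ht hw htw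
      have hw2 : w * w ≠ 0 := mul_ne_zero hw hw
      have hy : j (w * w) + -α = -(α * t) / (w * w) := by
        rw [hj' _ hw2, hsqα _ hw2 ⟨w, rfl⟩]
        field_simp
        linear_combination htw
      have hy0 : j (w * w) + -α ≠ 0 := by
        rw [hy]; exact div_ne_zero (neg_ne_zero.2 (mul_ne_zero hα0 ht)) hw2
      have h := hg (j t)
      rw [mul_smul, mul_smul, mul_smul, mul_smul, hj _ (hj0 _ ht), hjj _ ht, hT1, one_mul, one_mul, htw,
        hj _ hw2, hT2, one_mul, one_mul, hj _ hy0] at h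
      have h' := Option.some.inj (p.injective h)
      have hcls : γ (-(α * t) / (w * w)) = γ (-(α * t)) := by
        rw [← hγm w⁻¹ (-(α * t)) (inv_ne_zero hw) (neg_ne_zero.2 (mul_ne_zero hα0 ht))]
        congr 1
        field_simp
      have hat : -(α * t) ≠ 0 := neg_ne_zero.2 (mul_ne_zero hα0 ht)
      rw [hy, hj' _ (div_ne_zero hat hw2), hcls, hj' t ht] at h'
      field_simp at h' ⊢
      linear_combination -h'
  -- `γ` is constant
  obtain ⟨t, w, htns, hw, htw⟩ := exists_nonsquare_add_one_square h2K h5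
  have ht0 : t ≠ 0 := fun e => htns (e ▸ IsSquare.zero)
  have hγc : γ t = α := by
    by_contra hne
    have hαsq : IsSquare α := by
      have h1 := hγj 1 one_ne_zero
      rw [show j 1 = α from (one_mul (j 1)).symm] at h1
      by_contra hα
      exact hne ((hnsq t α htns hα).trans h1)
    have hgneg : γ (-α) = γ (-1) := by
      obtain ⟨r, hr⟩ := hαsq
      rw [← hγm r (-1) (fun e => hα0 (by rw [hr, e, mul_zero])) hm1, hr]
      congr 1; ring
    have hgnegt : γ (-(α * t)) = γ (-t) := by
      obtain ⟨r, hr⟩ := hαsq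
      rw [← hγm r (-t) (fun e => hα0 (by rw [hr, e, mul_zero])) (neg_ne_zero.2 ht0), hr]
      congr 1; ring
    have hAα : A * α = -1 := by
      have : (A * α + 1) * γ (-1) = 0 := by linear_combination α * hslope + hC0 + (-1 : K) * hgneg
      exact eq_neg_of_add_eq_zero_left ((mul_eq_zero.1 this).resolve_right (hγ0 _ hm1))
    have hkey := heq t w ht0 hw htw
    rw [hC0, hgneg, hgnegt] at hkey
    field_simp at hkey
    by_cases h1 : IsSquare (-1 : K)
    · have hnt : ¬ IsSquare (-t) := fun h => htns (by simpa using h1.mul h)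
      rw [hsqα _ hm1 h1, hnsq (-t) t hnt htns] at hkey
      have : (α - γ t) * t = 0 := by linear_combination -hkey + γ t * hAα - γ t * htw
      exact hne (sub_eq_zero.1 ((mul_eq_zero.1 this).resolve_right ht0)).symm
    · have hnt : IsSquare (-t) := by
        rw [← quadraticChar_one_iff_isSquare (neg_ne_zero.2 ht0), show -t = -1 * t by ring, map_mul,
          quadraticChar_neg_one_iff_not_isSquare.2 h1, quadraticChar_neg_one_iff_not_isSquare.2 htns]
        rfl
      rw [hsqα _ (neg_ne_zero.2 ht0) hnt, hnsq (-1) t h1 htns] at hkey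
      have : (α - γ t) * (t + 1) = 0 := by linear_combination hkey - γ t * hAα + α * htw
      exact hne (sub_eq_zero.1 ((mul_eq_zero.1 this).resolve_right (by rw [htw]; exact mul_ne_zero hw hw))).symm
  have hγ : ∀ x : K, x ≠ 0 → γ x = α := fun x hx => by
    by_cases h : IsSquare x
    · exact hsqα x hx h
    · rw [hnsq x t h htns, hγc]
  obtain ⟨m, hm, rfl⟩ := hA0
  have hmα : -α * (m * m) = 1 := by
    rw [hγ _ hm1] at hslope
    rw [hγ _ (neg_ne_zero.2 hα0)] at hC0
    have : α * (α * (m * m) + 1) = 0 := by linear_combination α * hslope + hC0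
    linear_combination -((mul_eq_zero.1 this).resolve_left hα0)
  -- comparison with the projective line
  let e : Ω ≃ ℙ K (Fin 2 → K) := p.symm.trans (Equiv.ofBijective _ lineCoord_bijective)
  have hep : ∀ o, e (p o) = lineCoord o := fun o => by simp [e]
  let T : Matrix.ProjectiveSpecialLinearGroup (Fin 2) K →* PGL(2, K) := Matrix.ProjectiveSpecialLinearGroup.toPGL
  let Sub : Subgroup G :=
    { carrier := {g | ∃ M, ∀ z, e (g • z) = T M • e z}
      one_mem' := ⟨1, fun z => by simp⟩
      mul_mem' := fun {g h} ⟨M, hM⟩ ⟨N, hN⟩ => ⟨M * N, fun z => by rw [mul_smul, hM, hN, map_mul, mul_smul]⟩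
      inv_mem' := fun {g} ⟨M, hM⟩ => ⟨M⁻¹, fun z => by rw [map_inv, eq_inv_smul_iff, ← hM, smul_inv_smul]⟩ }
  have hstab : ∀ g : G, g • p none = p none → g ∈ Sub := by
    intro g hg
    obtain ⟨m', c, hm', hgx⟩ := hB g hg
    obtain ⟨M, hM⟩ := exists_psl !![m', c / m'; 0, m'⁻¹] (by rw [det_fin_two_of]; field_simp; ring)
    refine ⟨M, fun z => ?_⟩
    obtain ⟨o, rfl⟩ := p.surjective z
    rcases o with _ | x
    · rw [hg, hep]
      refine (hM _ _ _ _ ⟨m', ?_⟩).symm
      funext i
      fin_cases i <;> simp [Matrix.mulVec, dotProduct]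
    · rw [hgx, hep, hep]
      refine (hM _ _ _ _ ⟨m'⁻¹, ?_⟩).symm
      funext i
      fin_cases i <;> simp [Matrix.mulVec, dotProduct] <;> field_simp
  have hs : s ∈ Sub := by
    obtain ⟨M, hM⟩ := exists_psl !![0, α * m; m, 0] (by rw [det_fin_two_of]; linear_combination hmα)
    refine ⟨M, fun z => ?_⟩
    obtain ⟨o, rfl⟩ := p.surjective z
    rcases o with _ | x
    · rw [hsa, hep, hep]
      refine (hM _ _ _ _ ⟨m, ?_⟩).symm
      funext i
      fin_cases i <;> simp [Matrix.mulVec, dotProduct]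
    · by_cases hx : x = 0
      · subst hx
        rw [hsb, hep, hep]
        refine (hM _ _ _ _ ⟨α * m, ?_⟩).symm
        funext i
        fin_cases i <;> simp [Matrix.mulVec, dotProduct]
      · rw [hj x hx, hep, hep]
        refine (hM _ _ _ _ ⟨m * x, ?_⟩).symm
        funext i
        fin_cases i <;> simp [Matrix.mulVec, dotProduct, hj' x hx, hγ x hx]
        field_simp
  have hall : ∀ g : G, ∃ M, ∀ z, e (g • z) = T M • e z := by
    intro g
    suffices g ∈ Sub from this
    rcases hy : p.symm (g • p none) with _ | y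
    · exact hstab g (p.symm_apply_eq.1 hy)
    · obtain ⟨t', htw', ht'⟩ := hA 1 y one_ne_zero
      have hg : g • p none = (t' * s) • p none := by
        rw [mul_smul, hsa, ht', mul_zero, zero_add]; exact p.symm_apply_eq.1 hy
      have h1 : (t' * s)⁻¹ * g ∈ Sub := hstab _ (by rw [mul_smul, hg, inv_smul_smul])
      have h2 := Sub.mul_mem (Sub.mul_mem (hstab t' htw') hs) h1
      rwa [mul_inv_cancel_left] at h2
  choose φ hφ using hall
  have tri : ∀ M N, (∀ z : ℙ K (Fin 2 → K), T M • z = T N • z) → M = N := by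
    intro M N h
    apply Matrix.ProjectiveSpecialLinearGroup.toPGL_injective
    have := H37.PGL_eq_one_of_fix_three ((T N)⁻¹ * T M) (H37.stdPt 0) (H37.stdPt 1) (H37.stdPt 2)
      (H37.stdPt_injective.ne (by decide)) (H37.stdPt_injective.ne (by decide))
      (H37.stdPt_injective.ne (by decide))
      (by rw [mul_smul, h, inv_smul_smul]) (by rw [mul_smul, h, inv_smul_smul])
      (by rw [mul_smul, h, inv_smul_smul])
    exact (inv_mul_eq_one.1 this).symm
  let Φ : G →* Matrix.ProjectiveSpecialLinearGroup (Fin 2) K := MonoidHom.mk' φ (fun g h => tri _ _ fun z => by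
    obtain ⟨z, rfl⟩ := e.surjective z
    rw [map_mul, mul_smul, ← hφ, ← hφ, ← hφ, mul_smul])
  have hinjΦ : Function.Injective Φ := by
    rw [← MonoidHom.ker_eq_bot_iff, Subgroup.eq_bot_iff_forall]
    intro g (hg : φ g = 1)
    exact hFaith.eq_of_smul_eq_smul fun z => e.injective (by rw [hφ, hg, map_one, one_smul, one_smul])
  refine ⟨K, FK, FtK, h2K, hcard, ⟨MulEquiv.ofBijective Φ ((Nat.bijective_iff_injective_and_card _).2 ⟨hinjΦ, ?_⟩)⟩⟩
  -- orders
  set q := Fintype.card K
  set d := Nat.card ↥(MulAction.stabilizer G (p none) ⊓ MulAction.stabilizer G (p (some 0))) with hddef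
  have hGcard : Nat.card G = (q + 1) * (q * d) := by
    haveI : MulAction.IsPretransitive G Ω := MulAction.isPretransitive_of_is_two_pretransitive
    have e1 := (MulAction.stabilizer G (p none)).card_mul_index
    rw [MulAction.index_stabilizer_of_transitive, Nat.card_eq_fintype_card (α := Ω), ← hcard] at e1
    have e2 := Subgroup.card_mul_index
      ((MulAction.stabilizer G (p none) ⊓ MulAction.stabilizer G (p (some 0))).subgroupOf (MulAction.stabilizer G (p none)))
    rw [Nat.card_congr (Subgroup.subgroupOfEquivOfLe inf_le_left).toEquiv] at e2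
    have e3 : ((MulAction.stabilizer G (p none) ⊓ MulAction.stabilizer G (p (some 0))).subgroupOf
        (MulAction.stabilizer G (p none))) = MulAction.stabilizer (MulAction.stabilizer G (p none)) (p (some 0)) := by
      ext g; exact ⟨fun h => h.2, fun h => ⟨g.2, h⟩⟩
    rw [e3, MulAction.index_stabilizer] at e2
    have horb : MulAction.orbit (MulAction.stabilizer G (p none)) (p (some 0)) = Set.range fun x => p (some x) := by
      ext z
      constructor
      · rintro ⟨g, rfl⟩
        obtain ⟨m', c, -, hc⟩ := hB g g.2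
        exact ⟨_, (hc 0).symm⟩
      · rintro ⟨x, rfl⟩
        obtain ⟨g, hga, hg⟩ := hA 1 x one_ne_zero
        exact ⟨⟨g, hga⟩, by
          change g • p (some 0) = p (some x)
          rw [hg, mul_zero, zero_add]⟩
    rw [horb, ← Nat.card_coe_set_eq,
      Nat.card_range_of_injective (fun x y h => Option.some.inj (p.injective h)),
      Nat.card_eq_fintype_card (α := K)] at e2
    rw [← e1, ← e2, hddef]; ring
  have hPSL := H37.card_PSL_fin (F := K) 2 (by norm_num)
  rw [Nat.card_eq_fintype_card (α := K), Fin.prod_univ_two] at hPSL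
  have hqd : q = 2 * d + 1 := by omega
  have hgcd : Nat.gcd 2 (q - 1) = 2 := Nat.gcd_eq_left ⟨d, by omega⟩
  rw [hgcd] at hPSL
  refine Nat.eq_of_mul_eq_mul_left (show 0 < 2 * (q - 1) by omega) ?_
  rw [mul_assoc, mul_assoc, hPSL, hGcard]
  simp only [Fin.coe_ofNat_eq_mod, Nat.zero_mod, Nat.one_mod, pow_zero, pow_one]
  have hqd' : Fintype.card K = 2 * d + 1 := hqd
  simp only [q, hqd']
  have e1 : (2 * d + 1) ^ 2 - 1 = 4 * d * d + 4 * d := by
    rw [show (2 * d + 1) ^ 2 = 4 * d * d + 4 * d + 1 by ring]; omega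
  have e2 : (2 * d + 1) ^ 2 - (2 * d + 1) = 4 * d * d + 2 * d := by
    rw [show (2 * d + 1) ^ 2 = 4 * d * d + 2 * d + (2 * d + 1) by ring]; omega
  rw [e1, e2, show 2 * d + 1 - 1 = 2 * d by omega]
  ring

end H59
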