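import Cfsg.Agent.H59.SharpHalf
import Cfsg.Agent.H2.FPFAction
import Cfsg.Agent.H35.CyclicIndexTwo
import Cfsg.Agent.H86.AutDihedral
import Mathlib.RingTheory.LittleWedderburn
import Mathlib.NumberTheory.Basic

/-!
An index two subgroup in the two-point stabiliser of a sharply 3-transitive group of even degree.
-/

set_option autoImplicit false

namespace H59

universe u v

variable {H : Type u} [Group H] [Finite H]

/-- elements of order prime to the index of a normal subgroup lie in it -/
theorem mem_of_coprime_index {N : Subgroup H} [N.Normal] {x : H} (h : Nat.Coprime (orderOf x) N.index) :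
    x ∈ N := by
  rw [← QuotientGroup.eq_one_iff, ← orderOf_eq_one_iff]
  exact Nat.eq_one_of_dvd_coprimes h (orderOf_map_dvd (QuotientGroup.mk' N) x)
    (Subgroup.index_eq_card N ▸ orderOf_dvd_natCard _)

theorem index_two_of_two_power {N : Subgroup H} [N.Normal] {a : ℕ} (ha : N.index = 2 ^ (a + 1)) :
    ∃ M : Subgroup H, M.index = 2 := by
  haveI : Fact (Nat.Prime 2) := ⟨Nat.prime_two⟩
  obtain ⟨M, hM⟩ := Sylow.exists_subgroup_card_pow_prime (G := H ⧸ N) 2 (n := a)
    (by rw [← Subgroup.index_eq_card, ha]; exact pow_dvd_pow 2 (Nat.le_succ a))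
  refine ⟨M.comap (QuotientGroup.mk' N), ?_⟩
  rw [Subgroup.index_comap_of_surjective _ (QuotientGroup.mk'_surjective N)]
  have h := M.card_mul_index
  rw [hM, ← Subgroup.index_eq_card, ha, pow_succ] at h
  exact Nat.eq_of_mul_eq_mul_left (Nat.two_pow_pos a) h

/-- a permutation of `3`-power order of at most `8` points cubes to the identity -/
theorem perm_cube_eq_one {T : Type*} [Fintype T] [DecidableEq T] (hT : Fintype.card T ≤ 8)
    (π : Equiv.Perm T) {k : ℕ} (hk : π ^ (3 ^ k) = 1) : π ^ 3 = 1 := by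
  rw [← orderOf_dvd_iff_pow_eq_one, ← Equiv.Perm.lcm_cycleType]
  refine Multiset.lcm_dvd.2 fun l hl => ?_
  have h1 : l ∣ 3 ^ k := (Equiv.Perm.dvd_of_mem_cycleType hl).trans (orderOf_dvd_of_pow_eq_one hk)
  have h2 : l ≤ 8 := (Multiset.le_sum_of_mem hl).trans
    (by rw [Equiv.Perm.sum_cycleType]; exact (Finset.card_le_univ _).trans hT)
  obtain ⟨j, -, rfl⟩ := (Nat.dvd_prime_pow Nat.prime_three).1 h1
  rcases j with _ | _ | j
  · simp
  · simp
  · exfalso
    have : 9 ≤ 3 ^ (j + 2) := by rw [pow_add]; have := Nat.one_le_pow j 3 (by norm_num); omega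
    omega

/-- a group with a large centre acting fixed-point-freely is abelian -/
theorem comm_of_large_center {p f : ℕ} (hp : p.Prime) {V : Type v} [AddCommGroup V] [Module (ZMod p) V]
    [Finite V] [Nontrivial V] (ρ : H →* Module.End (ZMod p) V) (hV : Nat.card V = p ^ f)
    (hinj : Function.Injective ρ) (hfpf : ∀ g, g ≠ 1 → ∀ x : V, ρ g x = x → x = 0)
    (hcard : Nat.card H = p ^ f - 1) (h72 : 72 ∣ Nat.card H)
    (hbig : Nat.card H ≤ 12 * Nat.card (Subgroup.center H)) : ∀ x y : H, x * y = y * x := by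
  classical
  haveI : Fact p.Prime := ⟨hp⟩
  let Z := Subgroup.center H
  by_cases hirr : ∀ W : Submodule (ZMod p) V, (∀ a : Z, ∀ w ∈ W, (ρ.comp Z.subtype) a w ∈ W) → W = ⊥ ∨ W = ⊤
  · -- the commutant is a finite domain
    let D : Subring (Module.End (ZMod p) V) :=
      Subring.centralizer (Set.range (ρ.comp Z.subtype))
    have hDmem : ∀ d ∈ D, ∀ a, d * (ρ.comp Z.subtype) a = (ρ.comp Z.subtype) a * d := fun d hd a =>
      ((Subring.mem_centralizer_iff.1 hd) _ ⟨a, rfl⟩).symm
    haveI : Finite (Module.End (ZMod p) V) := Finite.of_injective _ DFunLike.coe_injective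
    haveI : NoZeroDivisors D := ⟨fun {f g} h => by
      by_contra hne
      push Not at hne
      have h1 := H60.injective_of_commute_irred (ρ.comp Z.subtype) hirr (hDmem f f.2)
        (fun e => hne.1 (Subtype.ext e))
      refine hne.2 (Subtype.ext (LinearMap.ext fun v => h1 ?_))
      have h2 := LinearMap.congr_fun (congrArg Subtype.val h) v
      simpa using h2⟩
    haveI : Nontrivial D := ⟨⟨0, 1, fun e => by
      obtain ⟨v, hv⟩ := exists_ne (0 : V)
      exact hv (by have := LinearMap.congr_fun (congrArg Subtype.val e) v; simpa using this.symm)⟩⟩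
    haveI : IsDomain D := NoZeroDivisors.to_isDomain D
    have hmem : ∀ h, ρ h ∈ D := fun h => Subring.mem_centralizer_iff.2 (by
      rintro _ ⟨a, rfl⟩
      show ρ (a : H) * ρ h = ρ h * ρ (a : H)
      rw [← map_mul, ← map_mul, Subgroup.mem_center_iff.1 a.2 h])
    intro x y
    refine hinj ?_
    rw [map_mul, map_mul]
    exact congrArg Subtype.val ((Finite.isDomain_to_isField D).mul_comm ⟨_, hmem x⟩ ⟨_, hmem y⟩)
  · exfalso
    push Not at hirr
    obtain ⟨W, hW, hW0, hW1⟩ := hirr
    have hdvd : Nat.card Z ∣ Nat.card W - 1 := by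
      have hinvW : ∀ (a : Z), ∀ x : W, ρ ((a⁻¹ : Z) : H) (ρ (a : H) x) = x := fun a x => by
        rw [← Module.End.mul_apply, ← map_mul, Subgroup.coe_inv, inv_mul_cancel, map_one]; rfl
      let φ : Z →* MulAut (Multiplicative W) :=
        { toFun := fun a => AddEquiv.toMultiplicative
            { toFun := fun x => ⟨ρ (a : H) x, hW a x x.2⟩
              invFun := fun x => ⟨ρ ((a⁻¹ : Z) : H) x, hW a⁻¹ x x.2⟩
              left_inv := fun x => Subtype.ext (hinvW a x)
              right_inv := fun x => Subtype.ext (by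
                have := hinvW a⁻¹ x
                rwa [inv_inv] at this)
              map_add' := fun x y => Subtype.ext (map_add _ _ _) }
          map_one' := MulEquiv.ext fun x => Subtype.ext (by
            show ρ ((1 : Z) : H) (x.toAdd : V) = _
            rw [OneMemClass.coe_one, map_one]; rfl)
          map_mul' := fun a b => MulEquiv.ext fun x => Subtype.ext (by
            show ρ ((a * b : Z) : H) (x.toAdd : V) = ρ (a : H) (ρ (b : H) (x.toAdd : V))
            rw [Subgroup.coe_mul, map_mul]; rfl) }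
      letI : MulDistribMulAction Z (Multiplicative W) := MulDistribMulAction.compHom _ φ
      have := H2.card_dvd_of_fpf (F := Z) (M := Multiplicative W) (fun a ha m hm => by
        apply Multiplicative.toAdd.injective
        apply Subtype.ext
        exact hfpf (a : H) (fun e => ha (Subtype.ext e)) _
          (congrArg (fun z : Multiplicative W => (z.toAdd : V)) hm))
      rwa [Nat.card_congr Multiplicative.toAdd] at this
    set e := Module.finrank (ZMod p) W with he
    have hWc : Nat.card W = p ^ e := by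
      rw [Module.natCard_eq_pow_finrank (K := ZMod p), Nat.card_zmod]
    have hVf : Module.finrank (ZMod p) V = f := by
      have := Module.natCard_eq_pow_finrank (K := ZMod p) (V := V)
      rw [hV, Nat.card_zmod] at this
      exact (Nat.pow_right_injective hp.two_le this).symm
    have hef : e < f := hVf ▸ Submodule.finrank_lt hW1
    have he0 : 0 < e := by
      rw [he, Nat.pos_iff_ne_zero, Ne, Submodule.finrank_eq_zero]; exact hW0
    set g := Nat.gcd e f
    have hg0 : 0 < g := Nat.gcd_pos_of_pos_left f he0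
    have hgf : g + g ≤ f := by
      obtain ⟨t, ht⟩ := Nat.gcd_dvd_right e f
      rcases t with _ | _ | t
      · simp at ht; omega
      · have : g ≤ e := Nat.le_of_dvd he0 (Nat.gcd_dvd_left e f)
        simp [g] at ht this ⊢; omega
      · rw [ht]; change g + g ≤ g * (t + 2); rw [Nat.mul_add]; omega
    have hZg : Nat.card Z ≤ p ^ g - 1 := by
      refine Nat.le_of_dvd (Nat.sub_pos_of_lt (Nat.one_lt_pow hg0.ne' hp.one_lt)) ?_
      rw [← Nat.pow_sub_one_gcd_pow_sub_one]
      exact Nat.dvd_gcd (hWc ▸ hdvd) (hcard ▸ Subgroup.card_subgroup_dvd_card _)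
    have hsq : (p ^ g) * (p ^ g) ≤ p ^ f := by
      rw [← pow_add]; exact Nat.pow_le_pow_right hp.pos hgf
    have hbig' : Nat.card H ≤ 12 * Nat.card Z := hbig
    have hP11 : p ^ g ≤ 11 := by
      by_contra! hlt
      have : 12 * p ^ g ≤ p ^ g * p ^ g := Nat.mul_le_mul_right _ hlt
      have hHpos : 0 < Nat.card H := Nat.card_pos
      omega
    have hq : p ^ f = 73 ∨ p ^ f = 1 := by
      obtain ⟨c, hc⟩ := h72
      have hle : Nat.card H ≤ 12 * 10 := hbig'.trans (Nat.mul_le_mul_left 12 (by omega))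
      have := Nat.one_le_pow f p hp.pos
      omega
    rcases hq with h | h
    · have hp73 : p = 73 := by
        refine (Nat.prime_dvd_prime_iff_eq hp (by norm_num : Nat.Prime 73)).1 ?_
        rw [← h]; exact dvd_pow_self p (by omega)
      subst hp73
      have hf1 : f = 1 := Nat.pow_right_injective (by norm_num : 2 ≤ 73) (h.trans (pow_one 73).symm)
      omega
    · have := Nat.one_lt_pow (by omega : f ≠ 0) hp.one_lt; omega

/-- the abstract index two theorem -/
theorem exists_index_two_fpf {p f : ℕ} (hp : p.Prime) {V : Type v} [AddCommGroup V] [Module (ZMod p) V]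
    [Finite V] [Nontrivial V] (ρ : H →* Module.End (ZMod p) V) (hV : Nat.card V = p ^ f)
    (hinj : Function.Injective ρ) (hfpf : ∀ g, g ≠ 1 → ∀ x : V, ρ g x = x → x = 0)
    (hcard : Nat.card H = p ^ f - 1) (heven : Even (Nat.card H))
    (huniq : ∀ g h : H, g * g = 1 → g ≠ 1 → h * h = 1 → h ≠ 1 → g = h)
    (γ : MulAut H) (hγ : orderOf γ = 2) (hfix : Nat.card {h : H // γ h = h} = 2)
    (hthree : ∀ A B : Subgroup H, Nat.card A = 3 → Nat.card B = 3 → A = B) :
    ∃ M : Subgroup H, M.index = 2 := by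
  classical
  haveI : Fintype H := Fintype.ofFinite H
  haveI : Fact (Nat.Prime 2) := ⟨Nat.prime_two⟩
  haveI : Fact (Nat.Prime 3) := ⟨Nat.prime_three⟩
  by_contra hno
  let T : Sylow 2 H := default
  -- the Sylow 2-subgroup is quaternion
  obtain ⟨n, hn0, ⟨eT⟩⟩ : ∃ n, 0 < n ∧ Nonempty ((T : Subgroup H) ≃* QuaternionGroup (2 ^ n)) := by
    rcases H2.cyclic_or_quaternion_of_unique (p := 2) T.2 (fun A B hA hB => by
      have key : ∀ C : Subgroup (T : Subgroup H), Nat.card C = 2 →
          ∃ x ∈ C, C = Subgroup.zpowers x ∧ (x : H) * x = 1 ∧ (x : H) ≠ 1 := by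
        intro C hC
        obtain ⟨x, hx⟩ := exists_prime_orderOf_dvd_card' (G := C) 2 (by rw [hC])
        rw [← Subgroup.orderOf_coe] at hx
        refine ⟨x, x.2, (Subgroup.eq_of_le_of_card_ge (Subgroup.zpowers_le.2 x.2)
          (by rw [hC, Nat.card_zpowers, hx])).symm, ?_, ?_⟩
        · have hxsq := pow_orderOf_eq_one ((x : (T : Subgroup H)))
          rw [hx, sq] at hxsq
          exact congrArg Subtype.val hxsq
        · intro e
          rw [orderOf_eq_one_iff.2 (Subtype.ext e : (x : (T : Subgroup H)) = 1)] at hx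
          omega
      obtain ⟨x, -, hAx, hx2, hx1⟩ := key A hA
      obtain ⟨y, -, hBy, hy2, hy1⟩ := key B hB
      rw [hAx, hBy, Subtype.ext (huniq _ _ hx2 hx1 hy2 hy1)]) with h | ⟨-, n, ⟨e⟩⟩
    · exact absurd (H65.exists_index_two_of_cyclic_sylow heven T h) hno
    · refine ⟨n, Nat.pos_of_ne_zero ?_, ⟨e⟩⟩
      rintro rfl
      haveI : IsCyclic (QuaternionGroup (2 ^ 0)) := QuaternionGroup.quaternionGroup_one_isCyclic
      exact hno (H65.exists_index_two_of_cyclic_sylow heven T
        (isCyclic_of_surjective e.symm.toMonoidHom e.symm.surjective))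
  haveI : NeZero (2 ^ n) := ⟨(Nat.two_pow_pos n).ne'⟩
  have hTcard : Nat.card (T : Subgroup H) = 2 ^ (n + 2) := by
    rw [Nat.card_congr eT.toEquiv, Nat.card_eq_fintype_card, QuaternionGroup.card, pow_add]; ring
  have hidx : (T : Subgroup H).index % 2 = 1 := Nat.two_dvd_ne_zero.1 T.not_dvd_index
  have hHcard : Nat.card H = 2 ^ (n + 2) * (T : Subgroup H).index := by
    rw [← hTcard, Subgroup.card_mul_index]
  -- three divides the order
  have h3H : 3 ∣ Nat.card H := by
    by_contra h3
    obtain ⟨N, hN, hNc⟩ := H35.normal_two_complement (n + 2) (T : Subgroup H).index hHcard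
      (Nat.odd_iff.2 hidx) (fun h => h3 (hHcard ▸ h.mul_left _))
      ⟨((eT.symm (QuaternionGroup.a 1) : (T : Subgroup H)) : H), by
        rw [Subgroup.orderOf_coe, MulEquiv.orderOf_eq, QuaternionGroup.orderOf_a_one,
          show n + 2 - 1 = n + 1 by omega, pow_succ']⟩
    refine hno (index_two_of_two_power (N := N) (a := n + 1) ?_)
    have h := N.card_mul_index
    rw [hNc, hHcard, mul_comm (2 ^ (n + 2))] at h
    exact Nat.eq_of_mul_eq_mul_left (by omega) h
  -- a central element of order three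
  obtain ⟨c, hc⟩ := exists_prime_orderOf_dvd_card' (G := H) 3 h3H
  have hC3 : ∀ x : H, orderOf x = 3 → Subgroup.zpowers x = Subgroup.zpowers c := fun x hx =>
    hthree _ _ (by rw [Nat.card_zpowers, hx]) (by rw [Nat.card_zpowers, hc])
  have hc_mem : ∀ d : H, d ∈ Subgroup.zpowers c → d = 1 ∨ d = c ∨ d = c⁻¹ := by
    intro d hd
    obtain ⟨i, rfl⟩ := hd
    simp only
    rw [← zpow_mod_orderOf, hc]
    have h1 := Int.emod_nonneg i (show ((3 : ℕ) : ℤ) ≠ 0 by norm_num)
    have h2 := Int.emod_lt_of_pos i (show (0 : ℤ) < ((3 : ℕ) : ℤ) by norm_num)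
    rcases (by omega : i % ((3 : ℕ) : ℤ) = 0 ∨ i % ((3 : ℕ) : ℤ) = 1 ∨ i % ((3 : ℕ) : ℤ) = 2) with h | h | h <;>
      rw [h]
    · exact Or.inl (zpow_zero c)
    · exact Or.inr (Or.inl (zpow_one c))
    · refine Or.inr (Or.inr ?_)
      rw [eq_inv_iff_mul_eq_one, show (2 : ℤ) = ((2 : ℕ) : ℤ) from rfl, zpow_natCast, ← pow_succ,
        show 2 + 1 = orderOf c from hc.symm, pow_orderOf_eq_one]
  have hccl : ∀ h : H, h * c * h⁻¹ = c ∨ h * c * h⁻¹ = c⁻¹ := by
    intro h
    have ho : orderOf (h * c * h⁻¹) = 3 := by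
      rw [← hc]; exact MulEquiv.orderOf_eq (MulAut.conj h) c
    rcases hc_mem _ (hC3 _ ho ▸ Subgroup.mem_zpowers _) with e | e
    · rw [e, orderOf_one] at ho; omega
    · exact e
  have hcc : c⁻¹ ≠ c := fun e => by
    have : c ^ 2 = 1 := by rw [sq]; nth_rw 1 [← e]; exact inv_mul_cancel c
    have := orderOf_dvd_of_pow_eq_one this
    rw [hc] at this; norm_num at this
  have hcZ : ∀ h : H, h * c = c * h := by
    intro h
    by_contra hne
    have hinvh : h * c * h⁻¹ = c⁻¹ := (hccl h).resolve_left fun e => hne (mul_inv_eq_iff_eq_mul.1 e)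
    refine hno ⟨Subgroup.centralizer {c}, Subgroup.index_eq_two_iff.2 ⟨h, fun b => ?_⟩⟩
    simp only [Subgroup.mem_centralizer_singleton_iff, ← mul_inv_eq_iff_eq_mul]
    have hb : b * h * c * (b * h)⁻¹ = (b * c * b⁻¹)⁻¹ := by
      calc b * h * c * (b * h)⁻¹ = b * (h * c * h⁻¹) * b⁻¹ := by group
        _ = (b * c * b⁻¹)⁻¹ := by rw [hinvh]; group
    rw [hb]
    rcases hccl b with e | e <;> rw [e] <;> simp [Xor, hcc]
  -- the Sylow 3-subgroup is cyclic and central in its normaliser
  let P : Sylow 3 H := default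
  have hPcyc : IsCyclic (P : Subgroup H) := by
    rcases H2.cyclic_or_quaternion_of_unique (p := 3) P.2 (fun A B hA hB =>
      Subgroup.map_injective (P : Subgroup H).subtype_injective (hthree _ _
        (by rw [Subgroup.card_map_of_injective (P : Subgroup H).subtype_injective, hA])
        (by rw [Subgroup.card_map_of_injective (P : Subgroup H).subtype_injective, hB]))) with h | ⟨h, -⟩
    · exact h
    · omega
  obtain ⟨y, hy⟩ := hPcyc.exists_generator
  have hyP : ∀ x ∈ (P : Subgroup H), x ∈ Subgroup.zpowers (y : H) := fun x hx => by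
    obtain ⟨i, hi⟩ := hy ⟨x, hx⟩
    exact ⟨i, by simpa using congrArg Subtype.val hi⟩
  have hyle : Subgroup.zpowers (y : H) = (P : Subgroup H) :=
    le_antisymm (Subgroup.zpowers_le.2 y.2) hyP
  obtain ⟨k, hk⟩ := IsPGroup.iff_orderOf.1 P.2 y  -- orderOf y = 3 ^ k
  rw [← Subgroup.orderOf_coe] at hk
  have hPcard : Nat.card (P : Subgroup H) = 3 ^ k := by rw [← hyle, Nat.card_zpowers, hk]
  have hcP : c ∈ (P : Subgroup H) := by
    have hCn : (Subgroup.zpowers c).Normal := ⟨fun x hx g => by
      obtain ⟨i, rfl⟩ := hx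
      simp only [← conj_zpow, mul_inv_eq_iff_eq_mul.2 (hcZ g)]
      exact zpow_mem (Subgroup.mem_zpowers c) i⟩
    have h3p : IsPGroup 3 (Subgroup.zpowers c) := IsPGroup.of_card (n := 1) (by rw [Nat.card_zpowers, hc, pow_one])
    exact (h3p.le_sylow_of_normal P) (Subgroup.mem_zpowers c)
  have hk0 : 0 < k := by
    rcases Nat.eq_zero_or_pos k with h | h
    · exfalso
      rw [h, pow_zero] at hPcard
      have : c = 1 := by
        rw [Subgroup.card_eq_one.1 hPcard] at hcP
        exact Subgroup.mem_bot.1 hcP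
      rw [this, orderOf_one] at hc; omega
    · exact h
  have hNC : Subgroup.normalizer ((P : Subgroup H) : Set H) ≤ Subgroup.centralizer ((P : Subgroup H) : Set H) := by
    intro m hm
    obtain ⟨r, hr⟩ := hyP _ ((Subgroup.mem_normalizer_iff.1 hm y).1 y.2)
    simp only at hr
    obtain ⟨t, ht⟩ := hyP c hcP
    simp only at ht
    have h3r : (3 : ℤ) ∣ r - 1 := by
      have h1 : (y : H) ^ (r * t - t) = 1 := by
        rw [zpow_sub, zpow_mul, hr, conj_zpow, ht, mul_inv_eq_iff_eq_mul.2 (hcZ m), mul_inv_cancel]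
      rw [← orderOf_dvd_iff_zpow_eq_one, hk] at h1
      have ht1 : ¬ ((3 ^ k : ℕ) : ℤ) ∣ t := fun hd => by
        have : c = 1 := by rw [← ht]; exact orderOf_dvd_iff_zpow_eq_one.1 (hk ▸ hd)
        rw [this, orderOf_one] at hc; omega
      by_contra hne
      have hco : IsCoprime (((3 ^ k : ℕ)) : ℤ) (r - 1) := by
        push_cast
        refine IsCoprime.pow_left ?_
        rw [Int.isCoprime_iff_nat_coprime]
        exact Nat.prime_three.coprime_iff_not_dvd.2 fun h => hne (Int.ofNat_dvd_left.2 h)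
      exact ht1 (hco.dvd_of_dvd_mul_left (by rwa [show r * t - t = (r - 1) * t by ring] at h1))
    have hpowconj : ∀ j : ℕ, m ^ j * (y : H) * (m ^ j)⁻¹ = (y : H) ^ (r ^ j) := by
      intro j
      induction j with
      | zero => simp
      | succ j ih =>
        calc m ^ (j + 1) * (y : H) * (m ^ (j + 1))⁻¹ = m * (m ^ j * y * (m ^ j)⁻¹) * m⁻¹ := by
              rw [pow_succ' m j]; group
          _ = (m * y * m⁻¹) ^ (r ^ j) := by rw [ih, conj_zpow]
          _ = (y : H) ^ (r ^ (j + 1)) := by rw [← hr, ← zpow_mul, pow_succ']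
    have hD : ∀ x : H, x * y = y * x → x ∈ Subgroup.centralizer ((P : Subgroup H) : Set H) := by
      intro x hx
      rw [Subgroup.mem_centralizer_iff]
      intro w hw
      obtain ⟨i, rfl⟩ := hyP w hw
      exact ((Commute.zpow_right (show Commute x y from hx) i).eq).symm
    have hA : m ^ (3 ^ (k - 1)) ∈ Subgroup.centralizer ((P : Subgroup H) : Set H) := by
      refine hD _ (mul_inv_eq_iff_eq_mul.1 ?_)
      rw [hpowconj]
      have hd := dvd_sub_pow_of_dvd_sub (R := ℤ) (p := 3) (b := 1) (by exact_mod_cast h3r) (k - 1)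
      rw [show k - 1 + 1 = k by omega, one_pow] at hd
      have : (y : H) ^ (r ^ 3 ^ (k - 1) - 1) = 1 :=
        orderOf_dvd_iff_zpow_eq_one.1 (by rw [hk]; exact_mod_cast hd)
      rwa [zpow_sub, zpow_one, mul_inv_eq_one] at this
    obtain ⟨a, b, hb, hmb⟩ := Nat.exists_eq_pow_mul_and_not_dvd (orderOf_pos m).ne' 3 (by norm_num)
    have hB : m ^ b ∈ Subgroup.centralizer ((P : Subgroup H) : Set H) := by
      have hmbN : Subgroup.zpowers (m ^ b) ≤ Subgroup.normalizer ((P : Subgroup H) : Set H) :=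
        Subgroup.zpowers_le.2 (pow_mem hm b)
      have hp3 : IsPGroup 3 (Subgroup.zpowers (m ^ b)) := by
        refine IsPGroup.of_card (n := a) ?_
        rw [Nat.card_zpowers, orderOf_pow' m (fun e => hb (by rw [e]; exact dvd_zero 3)), hmb, Nat.gcd_comm,
          Nat.gcd_eq_left (dvd_mul_left b (3 ^ a)),
          Nat.mul_div_cancel _ (Nat.pos_of_ne_zero fun e => hb (by rw [e]; exact dvd_zero 3))]
      have hmP : m ^ b ∈ (P : Subgroup H) := by
        have := P.3 (hp3.to_sup_of_normal_right' P.2 hmbN) le_sup_right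
        exact this ▸ Subgroup.mem_sup_left (Subgroup.mem_zpowers _)
      obtain ⟨i, hi⟩ := hyP _ hmP
      exact hD _ (hi ▸ (Commute.self_zpow (y : H) i).symm.eq)
    have hco : IsCoprime ((3 ^ (k - 1) : ℕ) : ℤ) (b : ℤ) :=
      Int.isCoprime_iff_nat_coprime.2 (by simpa using ((Nat.prime_three.coprime_iff_not_dvd).2 hb).pow_left _)
    obtain ⟨u, v, huv⟩ := hco
    have : m = (m ^ (3 ^ (k - 1))) ^ u * (m ^ b) ^ v := by
      rw [← zpow_natCast, ← zpow_natCast m b, ← zpow_mul, ← zpow_mul, ← zpow_add, mul_comm _ u,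
        mul_comm _ v, huv, zpow_one]
    rw [this]
    exact mul_mem (zpow_mem hA u) (zpow_mem hB v)
  let K := (MonoidHom.transferSylow P hNC).ker
  have hKP : K.IsComplement' P := MonoidHom.ker_transferSylow_isComplement' P hNC
  have hKidx : K.index = 3 ^ k := by rw [hKP.symm.index_eq_card, hPcard]
  have hK3 : ¬ 3 ∣ Nat.card K := MonoidHom.not_dvd_card_ker_transferSylow P hNC
  have hKmem : ∀ x : H, ¬ 3 ∣ orderOf x → x ∈ K := fun x hx =>
    mem_of_coprime_index (by rw [hKidx]; exact (((Nat.prime_three.coprime_iff_not_dvd).2 hx).pow_left k).symm)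
  have h2_3 : ∀ x : H, (∃ j, orderOf x = 2 ^ j) → ¬ 3 ∣ orderOf x := by
    rintro x ⟨j, hj⟩ h
    have := (Nat.prime_dvd_prime_iff_eq Nat.prime_three Nat.prime_two).1 (Nat.prime_three.dvd_of_dvd_pow (hj ▸ h))
    omega
  have hTK : (T : Subgroup H) ≤ K := fun x hx => hKmem x (h2_3 x (by
    obtain ⟨j, hj⟩ := IsPGroup.iff_orderOf.1 T.2 ⟨x, hx⟩
    exact ⟨j, by rw [← hj, Subgroup.orderOf_mk]⟩))
  -- `K` has a normal 2-complement
  obtain ⟨d, hd⟩ : 2 ^ (n + 2) ∣ Nat.card K := hTcard ▸ Subgroup.card_dvd_of_le hTK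
  have hKH := K.card_mul_index
  have hd_odd : Odd d := by
    rw [hKidx, hd, hHcard, mul_assoc] at hKH
    have := Nat.eq_of_mul_eq_mul_left (Nat.two_pow_pos _) hKH
    exact Nat.Odd.of_mul_left (this ▸ Nat.odd_iff.2 hidx)
  obtain ⟨N, hNn, hNc⟩ := H35.normal_two_complement (G := K) (n + 2) d hd hd_odd
    (fun h => hK3 (hd ▸ h.mul_left _))
    ⟨⟨((eT.symm (QuaternionGroup.a 1) : (T : Subgroup H)) : H), hTK (SetLike.coe_mem _)⟩, by
      rw [Subgroup.orderOf_mk, Subgroup.orderOf_coe, MulEquiv.orderOf_eq, QuaternionGroup.orderOf_a_one,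
        show n + 2 - 1 = n + 1 by omega, pow_succ']⟩
  have hNidx : N.index = 2 ^ (n + 2) := by
    have h := N.card_mul_index
    rw [hNc, hd, mul_comm (2 ^ (n + 2))] at h
    exact Nat.eq_of_mul_eq_mul_left hd_odd.pos h
  let O : Subgroup H := N.map K.subtype
  have hOcard : Nat.card O = d := by rw [Subgroup.card_map_of_injective K.subtype_injective, hNc]
  have hOmem : ∀ x : H, x ∈ O ↔ x ∈ K ∧ Odd (orderOf x) := by
    intro x
    constructor
    · intro hx
      refine ⟨(Subgroup.map_subtype_le N) hx, ?_⟩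
      have : orderOf x ∣ d := hOcard ▸ O.orderOf_dvd_natCard hx
      exact hd_odd.of_dvd_nat this
    · rintro ⟨hxK, hxo⟩
      refine ⟨⟨x, hxK⟩, mem_of_coprime_index ?_, rfl⟩
      rw [hNidx, Subgroup.orderOf_mk]
      exact Nat.Coprime.pow_right _ (Nat.coprime_two_right.2 hxo)
  haveI hOn : O.Normal := ⟨fun x hx g => by
    rw [hOmem] at hx ⊢
    exact ⟨(inferInstance : K.Normal).conj_mem x hx.1 g,
      (MulEquiv.orderOf_eq (MulAut.conj g) x).symm ▸ hx.2⟩⟩
  have hO3 : ∀ x ∈ O, ¬ 3 ∣ orderOf x := fun x hx h =>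
    hK3 (h.trans (K.orderOf_dvd_natCard ((hOmem x).1 hx).1))
  have hγO : ∀ x ∈ O, γ x ∈ O := fun x hx => (hOmem _).2
    ⟨hKmem _ (by rw [MulEquiv.orderOf_eq]; exact hO3 x hx),
      by rw [MulEquiv.orderOf_eq]; exact ((hOmem x).1 hx).2⟩
  have hγγ : ∀ h, γ (γ h) = h := fun h => by
    have : γ ^ 2 = 1 := hγ ▸ pow_orderOf_eq_one γ
    rw [sq] at this
    exact congrArg (fun e : MulAut H => e h) this
  -- `γ` inverts `O`
  have hfix2 : ∀ h : H, γ h = h → h * h = 1 := by
    intro h hh
    let F : Subgroup H := { carrier := {h | γ h = h}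
                            one_mem' := map_one γ
                            mul_mem' := fun {a b} (ha : γ a = a) (hb : γ b = b) =>
                              show γ (a * b) = a * b by rw [map_mul, ha, hb]
                            inv_mem' := fun {a} (ha : γ a = a) => show γ a⁻¹ = a⁻¹ by rw [map_inv, ha] }
    have hF : Nat.card F = 2 := hfix
    have := pow_card_eq_one' (G := F) (x := ⟨h, hh⟩)
    rw [hF, sq] at this
    exact congrArg Subtype.val this
  let γO : O →* O :=
    { toFun := fun x => ⟨γ x, hγO x x.2⟩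
      map_one' := Subtype.ext (map_one γ)
      map_mul' := fun x y => Subtype.ext (map_mul γ _ _) }
  have hγOfp : MonoidHom.FixedPointFree γO := fun x hx => by
    have h1 : (x : H) ^ 2 = 1 := by rw [sq]; exact hfix2 x (congrArg Subtype.val hx)
    have h2 := orderOf_dvd_of_pow_eq_one h1
    rcases (Nat.dvd_prime Nat.prime_two).1 h2 with h | h
    · exact Subtype.ext (orderOf_eq_one_iff.1 h)
    · have := ((hOmem x).1 x.2).2
      rw [h] at this
      exact absurd this (by decide)
  have hinvO : ∀ x ∈ O, γ x = x⁻¹ := fun x hx =>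
    congrArg Subtype.val (congrFun (hγOfp.coe_eq_inv_of_involutive (fun z => Subtype.ext (hγγ z))) ⟨x, hx⟩)
  -- `O` is central
  have hOZ : ∀ x ∈ O, ∀ h : H, h * x = x * h := by
    let D := Subgroup.centralizer (O : Set H)
    let ff : H → H := fun h => h⁻¹ * γ h
    have himg : ∀ h, ff h ∈ D := by
      intro h
      rw [Subgroup.mem_centralizer_iff]
      intro x hx
      have h1 := hinvO _ (hOn.conj_mem x⁻¹ (O.inv_mem hx) h)
      rw [map_mul, map_mul, map_inv, hinvO x hx, inv_inv, map_inv] at h1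
      show x * (h⁻¹ * γ h) = h⁻¹ * γ h * x
      calc x * (h⁻¹ * γ h) = h⁻¹ * ((h * x⁻¹ * h⁻¹)⁻¹) * γ h := by group
        _ = h⁻¹ * (γ h * x * (γ h)⁻¹) * γ h := by rw [h1]
        _ = h⁻¹ * γ h * x := by group
    have hfib : ∀ z ∈ Finset.univ.image ff, (Finset.univ.filter (fun h => ff h = z)).card ≤ 2 := by
      intro z hz
      simp only [Finset.mem_image, Finset.mem_univ, true_and] at hz
      obtain ⟨h₀, rfl⟩ := hz
      rw [← hfix, Nat.card_eq_fintype_card, Fintype.card_subtype]
      refine Finset.card_le_card_of_injOn (fun h => h * h₀⁻¹) ?_ ?_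
      · intro h hh
        simp only [Finset.coe_filter, Finset.mem_univ, true_and, Set.mem_setOf_eq] at hh ⊢
        change h⁻¹ * γ h = h₀⁻¹ * γ h₀ at hh
        rw [inv_mul_eq_iff_eq_mul] at hh
        rw [map_mul, map_inv, hh]
        group
      · intro u _ v _ huv
        exact mul_right_cancel huv
    have hle : Fintype.card H ≤ 2 * (Finset.univ.image ff).card := by
      rw [← Finset.card_univ]
      exact Finset.card_le_mul_card_image _ 2 hfib
    have hle2 : (Finset.univ.image ff).card ≤ Nat.card D := by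
      rw [Nat.card_eq_fintype_card, Fintype.card_subtype]
      exact Finset.card_le_card fun z hz => by
        simp only [Finset.mem_image, Finset.mem_univ, true_and] at hz ⊢
        obtain ⟨h, rfl⟩ := hz
        simpa using himg h
    have hD : D.index = 1 := by
      have h := D.card_mul_index
      rw [Nat.card_eq_fintype_card (α := H)] at h
      have hne : D.index ≠ 2 := fun e => hno ⟨D, e⟩
      have h0 : D.index ≠ 0 := Subgroup.index_ne_zero_of_finite
      have hpos : 0 < Nat.card D := Nat.card_pos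
      by_contra h1
      have : Nat.card D * 3 ≤ Nat.card D * D.index := Nat.mul_le_mul_left _ (by omega)
      omega
    intro x hx h
    have : h ∈ D := (Subgroup.index_eq_one.1 hD).symm ▸ Subgroup.mem_top h
    exact ((Subgroup.mem_centralizer_iff.1 this) x hx).symm
  -- the Sylow 2-subgroup is normal
  have hTcoe : ∀ x ∈ (T : Subgroup H), ∃ j, orderOf x = 2 ^ j := fun x hx => by
    obtain ⟨j, hj⟩ := IsPGroup.iff_orderOf.1 T.2 ⟨x, hx⟩
    exact ⟨j, by rw [← hj, Subgroup.orderOf_mk]⟩
  have hTO : ∀ x ∈ K, ∃ o ∈ O, ∃ t ∈ (T : Subgroup H), x = o * t := by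
    intro x hx
    have hdis : Disjoint N ((T : Subgroup H).subgroupOf K) := Subgroup.disjoint_of_coprime_natCard (by
      rw [hNc, Nat.card_congr (Subgroup.subgroupOfEquivOfLe hTK).toEquiv, hTcard]
      exact Nat.Coprime.pow_right _ (Nat.coprime_two_right.2 hd_odd))
    have hc' : N.IsComplement' ((T : Subgroup H).subgroupOf K) :=
      Subgroup.isComplement'_of_disjoint_and_mul_eq_univ hdis (by
        haveI := hNn
        rw [← Subgroup.normal_mul]
        have : N ⊔ (T : Subgroup H).subgroupOf K = ⊤ := by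
          refine Subgroup.eq_top_of_le_card _ (Nat.le_of_dvd Nat.card_pos ?_)
          rw [hd]
          exact Nat.Coprime.mul_dvd_of_dvd_of_dvd (Nat.Coprime.pow_left _ (Nat.coprime_two_left.2 hd_odd))
            (hTcard ▸ (Nat.card_congr (Subgroup.subgroupOfEquivOfLe hTK).toEquiv ▸
              Subgroup.card_dvd_of_le le_sup_right))
            (hNc ▸ Subgroup.card_dvd_of_le le_sup_left)
        rw [this]; rfl)
    obtain ⟨⟨o, t⟩, hot⟩ := hc'.2 ⟨x, hx⟩
    exact ⟨_, Subgroup.mem_map_of_mem K.subtype o.2, _, t.2, (congrArg Subtype.val hot).symm⟩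
  haveI hTn : (T : Subgroup H).Normal := ⟨fun x hx g => by
    obtain ⟨o, ho, t, ht, e⟩ := hTO _ ((inferInstance : K.Normal).conj_mem x (hTK hx) g)
    suffices o = 1 by rw [e, this, one_mul]; exact ht
    obtain ⟨j, hj⟩ := hTcoe x hx
    obtain ⟨j', hj'⟩ := hTcoe t ht
    have h1 : (o * t) ^ (2 ^ (j + j')) = 1 := by
      rw [← e, conj_pow, pow_add, pow_mul, ← hj, pow_orderOf_eq_one, one_pow]; group
    rw [(show Commute o t from (hOZ o ho t).symm).mul_pow,
      show t ^ (2 ^ (j + j')) = 1 by rw [pow_add, mul_comm, pow_mul, ← hj', pow_orderOf_eq_one, one_pow],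
      mul_one] at h1
    rw [← orderOf_eq_one_iff]
    exact Nat.eq_one_of_dvd_coprimes
      (Nat.Coprime.pow_right (j + j') (Nat.coprime_two_right.2 ((hOmem o).1 ho).2))
      dvd_rfl (orderOf_dvd_of_pow_eq_one h1)⟩
  have hgenK : ∀ h : H, ∃ o ∈ O, ∃ t ∈ (T : Subgroup H), ∃ i : ℤ, h = o * t * (y : H) ^ i := by
    intro h
    obtain ⟨⟨a, b⟩, hab⟩ := hKP.2 h
    obtain ⟨o, ho, t, ht, e⟩ := hTO a a.2
    obtain ⟨i, hi⟩ := hyP b b.2
    exact ⟨o, ho, t, ht, i, by rw [← e, show (y : H) ^ i = b from hi]; exact hab.symm⟩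
  have hcent : ∀ w : H, (∀ t ∈ (T : Subgroup H), w * t = t * w) → Commute w y → w ∈ Subgroup.center H := by
    intro w hwT hwy
    rw [Subgroup.mem_center_iff]
    intro h
    obtain ⟨o, ho, t, ht, i, rfl⟩ := hgenK h
    have h1 : Commute w (o * t * (y : H) ^ i) :=
      ((show Commute w o from hOZ o ho w).mul_right (hwT t ht)).mul_right (hwy.zpow_right i)
    exact h1.eq.symm
  -- conjugation by `y` on `T`
  let φ : MulAut (T : Subgroup H) := MulAut.conjNormal (y : H)
  have hφk : φ ^ (3 ^ k) = 1 := by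
    show (MulAut.conjNormal (y : H)) ^ (3 ^ k) = 1
    rw [← map_pow, ← hk, pow_orderOf_eq_one, map_one]
  have hφcomm : ∀ j : ℕ, φ ^ j = 1 → ∀ t ∈ (T : Subgroup H), (y : H) ^ j * t = t * (y : H) ^ j := by
    intro j hj t ht
    have h := congrArg (fun e : MulAut (T : Subgroup H) => ((e ⟨t, ht⟩ : (T : Subgroup H)) : H)) hj
    simp only [φ, ← map_pow, MulAut.conjNormal_apply, MulAut.one_apply] at h
    exact mul_inv_eq_iff_eq_mul.1 h
  have hφ1 : φ ≠ 1 := by
    intro e
    have hyc : (y : H) ∈ Subgroup.center H := hcent _ (fun t ht => by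
      simpa using hφcomm 1 (by rw [pow_one]; exact e) t ht) (Commute.refl _)
    let W : Subgroup H := O ⊔ Subgroup.zpowers (y : H)
    have hWZ : W ≤ Subgroup.center H := sup_le (fun x hx => Subgroup.mem_center_iff.2 (hOZ x hx))
      (Subgroup.zpowers_le.2 hyc)
    haveI hWn : W.Normal := ⟨fun x hx g => by
      rwa [Subgroup.mem_center_iff.1 (hWZ hx) g, mul_inv_cancel_right]⟩
    have hWdvd : d * 3 ^ k ∣ Nat.card W :=
      Nat.Coprime.mul_dvd_of_dvd_of_dvd
        (Nat.Coprime.pow_right k ((Nat.prime_three.coprime_iff_not_dvd.2 fun h => hK3 (hd ▸ h.mul_left _)).symm))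
        (hOcard ▸ Subgroup.card_dvd_of_le le_sup_left)
        (hk ▸ Nat.card_zpowers (y : H) ▸ Subgroup.card_dvd_of_le le_sup_right)
    obtain ⟨w, hw⟩ := hWdvd
    have h := W.card_mul_index
    rw [hw, ← K.card_mul_index, hd, hKidx] at h
    have hidxdvd : W.index ∣ 2 ^ (n + 2) := ⟨w, Nat.eq_of_mul_eq_mul_left
      (Nat.mul_pos hd_odd.pos (Nat.pow_pos (by norm_num : 0 < 3)) : 0 < d * 3 ^ k) (by linarith)⟩
    obtain ⟨j, -, hj⟩ := (Nat.dvd_prime_pow Nat.prime_two).1 hidxdvd
    rcases j with _ | j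
    · have hall : ∀ a : H, a ∈ Subgroup.center H := fun a =>
        hWZ ((Subgroup.index_eq_one.1 (by simpa using hj) : W = ⊤) ▸ Subgroup.mem_top a)
      have := congrArg (eT) (Subtype.ext ((Subgroup.mem_center_iff.1 (hall _)
        ((eT.symm (.a 1) : (T : Subgroup H)) : H))) : eT.symm (.a 1) * eT.symm (.xa 0) = eT.symm (.xa 0) * eT.symm (.a 1))
      simp only [map_mul, MulEquiv.apply_symm_apply, QuaternionGroup.a_mul_xa, QuaternionGroup.xa_mul_a,
        QuaternionGroup.xa.injEq] at this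
      have h4 : ((2 : ℕ) : ZMod (2 * 2 ^ n)) = 0 := by
        push_cast; linear_combination -this
      have := Nat.le_of_dvd (by norm_num) ((ZMod.natCast_eq_zero_iff _ _).1 h4)
      have := Nat.pow_le_pow_right (by norm_num : 0 < 2) hn0
      omega
    · exact hno (index_two_of_two_power (N := W) (a := j) hj)
  -- so the quaternion group has order eight
  have hn1 : n = 1 := by
    by_contra hne
    apply hφ1
    have h2 := (H86.isPGroup_two_mulAut_quaternion n (by omega)).of_equiv (MulAut.congr eT.symm)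
    obtain ⟨j, hj⟩ := h2 φ
    rw [← orderOf_eq_one_iff]
    exact Nat.eq_one_of_dvd_coprimes (Nat.Coprime.pow k j (by norm_num : Nat.Coprime 3 2))
      (orderOf_dvd_of_pow_eq_one hφk) (orderOf_dvd_of_pow_eq_one hj)
  have hφ3 : φ ^ 3 = 1 := by
    let P8 : MulAut (T : Subgroup H) →* Equiv.Perm (T : Subgroup H) :=
      { toFun := fun e => e.toEquiv, map_one' := rfl, map_mul' := fun _ _ => rfl }
    have hinj8 : Function.Injective P8 := fun a b e => MulEquiv.toEquiv_injective e
    refine hinj8 ?_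
    rw [map_pow, map_one]
    refine perm_cube_eq_one ?_ _ (k := k) (by rw [← map_pow, hφk, map_one])
    rw [← Nat.card_eq_fintype_card, hTcard, hn1]
    norm_num
  have hy3 : (y : H) ^ 3 ∈ Subgroup.center H :=
    hcent _ (hφcomm 3 hφ3) (Commute.pow_self _ _)
  have hk2 : 2 ≤ k := by
    by_contra hlt
    refine hφ1 (MulEquiv.ext fun t => Subtype.ext ?_)
    have hy1 : (y : H) ^ 3 = 1 := by
      have := pow_orderOf_eq_one (y : H)
      rwa [hk, show k = 1 by omega, pow_one] at this
    have hord : orderOf (y : H) = 3 := by rw [hk, show k = 1 by omega, pow_one]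
    have hyc : ∀ h, h * (y : H) = y * h := by
      intro h
      rcases hc_mem _ (hC3 _ hord ▸ Subgroup.mem_zpowers _) with e | e | e
      · rw [e, orderOf_one] at hord; omega
      · rw [e]; exact hcZ h
      · rw [e]; exact ((show Commute h c from hcZ h).inv_right).eq
    rw [MulAut.one_apply, MulAut.conjNormal_apply, ← hyc, mul_inv_cancel_right]
  -- the centre is large
  obtain ⟨z, hzT⟩ := exists_prime_orderOf_dvd_card' (G := (T : Subgroup H)) 2 (hTcard ▸ dvd_pow_self 2 (by omega))
  rw [← Subgroup.orderOf_coe] at hzT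
  have hzc : (z : H) ∈ Subgroup.center H := by
    rw [Subgroup.mem_center_iff]
    intro h
    have hz2 : (z : H) * z = 1 := by
      have h := pow_orderOf_eq_one (z : H)
      rwa [hzT, sq] at h
    have hz1 : (z : H) ≠ 1 := fun e => by rw [e, orderOf_one] at hzT; omega
    have h2 : h * (z : H) * h⁻¹ * (h * (z : H) * h⁻¹) = 1 := by
      rw [show h * (z : H) * h⁻¹ * (h * (z : H) * h⁻¹) = h * ((z : H) * z) * h⁻¹ by group, hz2]; group
    exact mul_inv_eq_iff_eq_mul.1 (huniq _ _ h2 (fun e => hz1 (conj_eq_one_iff.1 e)) hz2 hz1)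
  have hcenter : 2 * 3 ^ (k - 1) * d ∣ Nat.card (Subgroup.center H) := by
    have hord3 : orderOf ((y : H) ^ 3) = 3 ^ (k - 1) := by
      have e3 : 3 ^ k = 3 ^ (k - 1) * 3 := by rw [← pow_succ]; congr 1; omega
      rw [orderOf_pow' _ (by norm_num), hk, e3, Nat.gcd_eq_right (dvd_mul_left 3 _),
        Nat.mul_div_cancel _ (by norm_num)]
    have h1 : 2 ∣ Nat.card (Subgroup.center H) := hzT ▸ (Subgroup.center H).orderOf_dvd_natCard hzc
    have h2 : 3 ^ (k - 1) ∣ Nat.card (Subgroup.center H) := hord3 ▸ (Subgroup.center H).orderOf_dvd_natCard hy3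
    have h3 : d ∣ Nat.card (Subgroup.center H) :=
      hOcard ▸ Subgroup.card_dvd_of_le fun x hx => Subgroup.mem_center_iff.2 (hOZ x hx)
    have hd3 : Nat.Coprime (3 ^ (k - 1)) d :=
      (Nat.prime_three.coprime_iff_not_dvd.2 fun h => hK3 (hd ▸ h.mul_left _)).pow_left _
    exact Nat.Coprime.mul_dvd_of_dvd_of_dvd
      (Nat.Coprime.mul_left (Nat.coprime_two_left.2 hd_odd) hd3)
      (Nat.Coprime.mul_dvd_of_dvd_of_dvd (Nat.Coprime.pow_right _ (by norm_num)) h1 h2) h3
  have hHeq : Nat.card H = 8 * d * 3 ^ k := by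
    rw [← K.card_mul_index, hd, hKidx, hn1]; norm_num
  have e3 : 3 ^ k = 3 ^ (k - 1) * 3 := by rw [← pow_succ]; congr 1; omega
  have h72 : 72 ∣ Nat.card H := by
    obtain ⟨j, rfl⟩ := Nat.exists_eq_add_of_le hk2
    exact ⟨d * 3 ^ j, by rw [hHeq, pow_add]; ring⟩
  have hbig : Nat.card H ≤ 12 * Nat.card (Subgroup.center H) := by
    refine le_trans (le_of_eq ?_) (Nat.mul_le_mul_left 12 (Nat.le_of_dvd Nat.card_pos hcenter))
    rw [hHeq, e3]; ring
  have hcomm := comm_of_large_center hp ρ hV hinj hfpf hcard h72 hbig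
  exact hφ1 (MulEquiv.ext fun t => Subtype.ext (by
    rw [MulAut.one_apply, MulAut.conjNormal_apply, hcomm (y : H) t, mul_inv_cancel_right]))

end H59
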