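import Mathlib

/-!
A stabiliser chain for eight generators of the Mathieu group of degree twelve.
-/

set_option autoImplicit false
set_option maxRecDepth 4000
set_option synthInstance.maxSize 2000

namespace H59.M12Chain

open Equiv

abbrev gu : Perm (Fin 12) := swap 4 9 * swap 4 5 * swap 4 6 * swap 7 10 * swap 7 11 * swap 7 8
abbrev gv : Perm (Fin 12) := swap 4 11 * swap 4 5 * swap 4 7 * swap 6 8 * swap 6 9 * swap 6 10
abbrev gw : Perm (Fin 12) := swap 4 8 * swap 4 5 * swap 4 10 * swap 6 7 * swap 6 9 * swap 6 11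
abbrev gs : Perm (Fin 12) := swap 3 5 * swap 3 4 * swap 6 8 * swap 6 7 * swap 9 11 * swap 9 10
abbrev gt : Perm (Fin 12) := swap 3 9 * swap 3 6 * swap 4 10 * swap 4 7 * swap 5 11 * swap 5 8
abbrev ga : Perm (Fin 12) := swap 0 3 * swap 6 7 * swap 8 10 * swap 9 11
abbrev gb : Perm (Fin 12) := swap 0 1 * swap 6 9 * swap 7 10 * swap 8 11
abbrev gc : Perm (Fin 12) := swap 1 2 * swap 6 11 * swap 7 9 * swap 8 10

def gen : Fin 8 → Perm (Fin 12) := ![gu, gv, gw, gs, gt, ga, gb, gc]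

def tbl : List (List (Fin 12)) :=
  [[0,1,2,3,6,9,5,8,11,4,7,10],[0,1,2,3,7,11,10,5,6,8,9,4],[0,1,2,3,10,8,11,6,4,7,5,9],
   [0,1,2,4,5,3,7,8,6,10,11,9],[0,1,2,6,7,8,9,10,11,3,4,5],[3,1,2,0,4,5,7,6,10,11,8,9],
   [1,0,2,3,4,5,9,10,11,6,7,8],[0,2,1,3,4,5,11,9,10,7,8,6]]

def app (j : Fin 8) (x : Fin 12) : Fin 12 := (tbl.getD j.val []).getD x.val x

theorem gen_eq : ∀ j x, gen j x = app j x := by decide +kernel

def ev (w : List (Fin 8)) (x : Fin 12) : Fin 12 := w.foldr app x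

def val (w : List (Fin 8)) : Perm (Fin 12) := (w.map gen).prod

theorem val_apply (w : List (Fin 8)) (x : Fin 12) : val w x = ev w x := by
  induction w with
  | nil => rfl
  | cons j w ih =>
    show gen j (val w x) = app j (ev w x)
    rw [ih, gen_eq]

/-- the group generated by the first `m` generators -/
def grp (m : ℕ) : Subgroup (Perm (Fin 12)) := Subgroup.closure (gen '' {j | j.val < m})

theorem gen_mem {m : ℕ} {j : Fin 8} (h : j.val < m) : gen j ∈ grp m :=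
  Subgroup.subset_closure ⟨j, h, rfl⟩

theorem val_mem {m : ℕ} {w : List (Fin 8)} (h : ∀ j ∈ w, j.val < m) : val w ∈ grp m := by
  refine Subgroup.list_prod_mem _ fun g hg => ?_
  obtain ⟨j, hj, rfl⟩ := List.mem_map.1 hg
  exact gen_mem (h j hj)

/-- the decidable certificate of one level -/
def LevelOK (m m' : ℕ) (b : Fin 12) (rep : List (List (Fin 8))) (orb : List (Fin 12))
    (wit : List (List (List (Fin 8)))) : Prop :=
  b ∈ orb ∧ orb.Nodup ∧ rep.getD b.val [] = [] ∧ m' ≤ m ∧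
    (∀ j : Fin 8, j.val < m' → app j b = b) ∧
    (∀ y ∈ orb, ev (rep.getD y.val []) b = y ∧ ∀ j ∈ rep.getD y.val [], j.val < m) ∧
    ∀ j : Fin 8, j.val < m → ∀ y ∈ orb, app j y ∈ orb ∧
      (∀ k ∈ (wit.getD j.val []).getD y.val [], k.val < m') ∧
      ∀ x, ev (j :: rep.getD y.val []) x =
        ev (rep.getD (app j y).val []) (ev ((wit.getD j.val []).getD y.val []) x)

theorem level {m m' : ℕ} {b : Fin 12} {rep : List (List (Fin 8))} {orb : List (Fin 12)}
    {wit : List (List (List (Fin 8)))} (h : LevelOK m m' b rep orb wit) :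
    grp m ⊓ MulAction.stabilizer (Perm (Fin 12)) b = grp m' ∧
      Nat.card (grp m) = orb.length * Nat.card (grp m') := by
  classical
  obtain ⟨hb, hnd, hrb, hmm, hfix, hrep, hstep⟩ := h
  let r : Fin 12 → Perm (Fin 12) := fun y => val (rep.getD y.val [])
  have hrb1 : r b = 1 := by show val (rep.getD b.val []) = 1; rw [hrb]; rfl
  have hH' : grp m' ≤ MulAction.stabilizer (Perm (Fin 12)) b := by
    rw [grp, Subgroup.closure_le]
    rintro _ ⟨j, hj, rfl⟩
    show gen j b = b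
    rw [gen_eq, hfix j hj]
  have hle : grp m' ≤ grp m :=
    Subgroup.closure_mono (Set.image_mono fun j (hj : j.val < m') => lt_of_lt_of_le hj hmm)
  have key : ∀ g ∈ grp m, g b ∈ orb ∧ (r (g b))⁻¹ * g ∈ grp m' := by
    intro g hg
    have hg' : g ∈ Submonoid.closure (gen '' {j | j.val < m}) := by
      rw [← Subgroup.closure_toSubmonoid_of_finite]; exact hg
    induction hg' using Submonoid.closure_induction_left with
    | one => exact ⟨hb, by rw [Perm.one_apply, hrb1]; simp⟩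
    | mul_left x hx y hy ih =>
      obtain ⟨j, hj, rfl⟩ := hx
      have hyg : y ∈ grp m := by
        have := mul_mem (inv_mem (gen_mem (m := m) hj)) hg
        rwa [inv_mul_cancel_left] at this
      obtain ⟨ho, hH⟩ := ih hyg
      obtain ⟨ho', hw, heq⟩ := hstep j hj (y b) ho
      have e : gen j * r (y b) = r (app j (y b)) * val ((wit.getD j.val []).getD (y b).val []) := by
        ext x
        rw [Perm.mul_apply, Perm.mul_apply, val_apply, val_apply, val_apply, gen_eq]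
        exact congrArg Fin.val (heq x)
      rw [Perm.mul_apply, gen_eq]
      refine ⟨ho', ?_⟩
      have e2 : (r (app j (y b)))⁻¹ * (gen j * y) =
          val ((wit.getD j.val []).getD (y b).val []) * ((r (y b))⁻¹ * y) := by
        calc (r (app j (y b)))⁻¹ * (gen j * y)
            = (r (app j (y b)))⁻¹ * (gen j * r (y b)) * ((r (y b))⁻¹ * y) := by group
          _ = _ := by rw [e, inv_mul_cancel_left]
      rw [e2]
      exact mul_mem (val_mem hw) hH
  have hstab : grp m ⊓ MulAction.stabilizer (Perm (Fin 12)) b = grp m' := by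
    refine le_antisymm (fun g hg => ?_) (le_inf hle hH')
    obtain ⟨-, h2⟩ := key g hg.1
    have hgb : g b = b := hg.2
    rwa [hgb, hrb1, inv_one, one_mul] at h2
  refine ⟨hstab, ?_⟩
  have horb : MulAction.orbit (grp m) b = (orb.toFinset : Set (Fin 12)) := by
    ext y
    simp only [Finset.mem_coe, List.mem_toFinset]
    constructor
    · rintro ⟨g, rfl⟩
      exact (key g g.2).1
    · intro hy
      obtain ⟨h1, h2⟩ := hrep y hy
      exact ⟨⟨r y, val_mem h2⟩, (val_apply _ b).trans h1⟩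
  have hst : Nat.card (MulAction.stabilizer (grp m) b) = Nat.card (grp m') := by
    rw [← hstab]
    exact Nat.card_congr
      { toFun := fun g => ⟨g.1.1, g.1.2, g.2⟩
        invFun := fun g => ⟨⟨g.1, g.2.1⟩, g.2.2⟩
        left_inv := fun g => rfl
        right_inv := fun g => rfl }
  have hcard := (MulAction.stabilizer (grp m) b).card_mul_index
  rw [MulAction.index_stabilizer, horb, Set.ncard_coe_finset, List.toFinset_card_of_nodup hnd, hst] at hcard
  rw [← hcard, mul_comm]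

def rep0 : List (List (Fin 8)) :=
  [[6,7],[7],[],[5,6,7],[3,5,6,7],[3,3,5,6,7],[4,5,6,7],[1,3,5,6,7],[0,1,3,5,6,7],[4,4,5,6,7],[2,3,5,6,7],[2,4,5,6,7]]

def orb0 : List (Fin 12) := [0,1,2,3,4,5,6,7,8,9,10,11]

def wit0 : List (List (List (Fin 8))) :=
  [[[1],[2,0],[0],[0,1],[0,1],[0,1],[0,1],[],[0,1],[0,1],[],[2]],
    [[0,1],[1,2],[1],[1],[],[2],[2],[0,0],[0,1],[0,1],[2],[2]],
    [[1,2],[0,1],[2],[0],[],[0,0],[],[0,1],[],[0,1],[0,0],[0,0]],
    [[3],[3],[3],[],[],[],[2,0],[0,1],[1,2],[1,2],[],[0]],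
    [[1,3,2,0],[2,4,0,1],[4],[],[2,0],[0],[],[2],[0,0],[],[0],[0]],
    [[],[5],[5],[],[3,3,0,0],[3,0,0],[3,3,0,1],[2,3],[3,3,0,0],[2,3,0,1],[3,3,0,0],[0,1,3,2]],
    [[],[],[6],[5],[5],[5],[5],[5],[5,2],[5],[5],[5,2]],
    [[6],[],[],[6],[6],[6],[6,0],[6,1],[6],[6,0,1],[6],[6,0]]]

def rep1 : List (List (Fin 8)) :=
  [[6],[],[],[5,6],[3,5,6],[3,3,5,6],[4,5,6],[1,3,5,6],[0,1,3,5,6],[4,4,5,6],[2,3,5,6],[2,4,5,6]]

def orb1 : List (Fin 12) := [0,1,3,4,5,6,7,8,9,10,11]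

def wit1 : List (List (List (Fin 8))) :=
  [[[1,2],[0],[],[2],[2],[2],[2],[],[2],[2],[],[0,1]],
    [[2],[1],[],[1,2],[],[0,1],[0,1],[0,0],[2],[2],[0,1],[0,1]],
    [[1],[2],[],[2,0],[],[0,0],[],[2],[],[2],[0,0],[0,0]],
    [[3],[3],[],[],[],[],[0],[2],[1],[1],[],[2,0]],
    [[4,4],[4],[],[],[0],[2,0],[],[0,1],[0,0],[],[2,0],[2,0]],
    [[],[5],[],[],[3,3,0,0],[3,0,0],[3,3,2],[0,1,3],[3,3,0,0],[0,1,3,2],[3,3,0,0],[2,3,0,1]],
    [[],[],[],[5],[5],[5],[5],[5],[5,0,1],[5],[5],[5,0,1]]]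

def rep2 : List (List (Fin 8)) :=
  [[],[],[],[5],[3,5],[3,3,5],[4,5],[1,3,5],[0,1,3,5],[4,4,5],[2,3,5],[2,4,5]]

def orb2 : List (Fin 12) := [0,3,4,5,6,7,8,9,10,11]

def wit2 : List (List (List (Fin 8))) :=
  [[[0],[],[],[1],[1],[1],[1],[],[1],[1],[],[2,0]],
    [[1],[],[],[0],[],[2,0],[2,0],[0,0],[1],[1],[2,0],[2,0]],
    [[2],[],[],[0,1],[],[0,0],[],[1],[],[1],[0,0],[0,0]],
    [[3],[],[],[],[],[],[1,2],[1],[2],[2],[],[0,1]],
    [[4],[],[],[],[1,2],[0,1],[],[2,0],[0,0],[],[0,1],[0,1]],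
    [[],[],[],[],[3,3,0,0],[3,0,0],[3,3,1],[2,4,0],[3,3,0,0],[2,4,0,1],[3,3,0,0],[1,3,2,0]]]

def rep3 : List (List (Fin 8)) :=
  [[],[],[],[],[3],[3,3],[4],[1,3],[0,1,3],[4,4],[2,3],[2,4]]

def orb3 : List (Fin 12) := [3,4,5,6,7,8,9,10,11]

def wit3 : List (List (List (Fin 8))) :=
  [[[],[],[],[0],[0],[0],[0],[],[0],[0],[],[1,2]],
    [[],[],[],[1],[],[1,2],[1,2],[0,0],[0],[0],[1,2],[1,2]],
    [[],[],[],[2],[],[0,0],[],[0],[],[0],[0,0],[0,0]],
    [[],[],[],[],[],[],[2,0],[0],[0,1],[0,1],[],[2]],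
    [[],[],[],[],[2,0],[2],[],[1,2],[0,0],[],[2],[2]]]

def rep4 : List (List (Fin 8)) :=
  [[],[],[],[],[],[0,0],[0],[1],[0,1],[1,2],[2],[2,0]]

def orb4 : List (Fin 12) := [4,5,6,7,8,9,10,11]

def wit4 : List (List (List (Fin 8))) :=
  [[[],[],[],[],[],[],[],[],[],[],[],[]],
    [[],[],[],[],[],[],[],[],[],[],[],[]],
    [[],[],[],[],[],[],[],[],[],[],[],[]]]

theorem grp_zero : grp 0 = ⊥ := by
  rw [grp, Subgroup.closure_eq_bot_iff]
  rintro _ ⟨j, hj, rfl⟩
  exact absurd hj (Nat.not_lt_zero _)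

theorem ok0 : LevelOK 8 7 2 rep0 orb0 wit0 := by unfold LevelOK; decide +kernel
theorem ok1 : LevelOK 7 6 1 rep1 orb1 wit1 := by unfold LevelOK; decide +kernel
theorem ok2 : LevelOK 6 5 0 rep2 orb2 wit2 := by unfold LevelOK; decide +kernel
theorem ok3 : LevelOK 5 3 3 rep3 orb3 wit3 := by unfold LevelOK; decide +kernel
theorem ok4 : LevelOK 3 0 4 rep4 orb4 wit4 := by unfold LevelOK; decide +kernel

theorem card_seven : Nat.card (grp 7) = 7920 := by
  rw [(level ok1).2, (level ok2).2, (level ok3).2, (level ok4).2, grp_zero, Subgroup.card_bot]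
  rfl

theorem card_eight : Nat.card (grp 8) = 95040 := by
  rw [(level ok0).2, card_seven]
  rfl

/-- the base -/
def base : Fin 5 ↪ Fin 12 := ⟨![2, 1, 0, 3, 4], by decide⟩

theorem stab_base : MulAction.stabilizer (grp 8) base = ⊥ := by
  rw [Subgroup.eq_bot_iff_forall]
  rintro ⟨g, hg⟩ h
  rw [MulAction.mem_stabilizer_iff] at h
  have hi : ∀ i, g (base i) = base i := fun i => congrArg (fun e : Fin 5 ↪ Fin 12 => e i) h
  have h7 : g ∈ grp 7 := (level ok0).1.le ⟨hg, hi 0⟩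
  have h6 : g ∈ grp 6 := (level ok1).1.le ⟨h7, hi 1⟩
  have h5 : g ∈ grp 5 := (level ok2).1.le ⟨h6, hi 2⟩
  have h3 : g ∈ grp 3 := (level ok3).1.le ⟨h5, hi 3⟩
  have h0 : g ∈ grp 0 := (level ok4).1.le ⟨h3, hi 4⟩
  rw [grp_zero, Subgroup.mem_bot] at h0
  exact Subtype.ext h0

theorem sharp : MulAction.IsMultiplyPretransitive (grp 8) (Fin 12) 5 ∧
    ∀ y : Fin 5 ↪ Fin 12, MulAction.stabilizer (grp 8) y = ⊥ := by
  classical
  have horb : MulAction.orbit (grp 8) base = Set.univ := by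
    apply Set.eq_of_subset_of_ncard_le (Set.subset_univ _) ?_ (Set.toFinite _)
    have e : (MulAction.stabilizer (grp 8) base).index = (MulAction.orbit (grp 8) base).ncard :=
      MulAction.index_stabilizer _ _
    rw [stab_base, Subgroup.index_bot, card_eight] at e
    rw [← e, Set.ncard_univ, Nat.card_eq_fintype_card, Fintype.card_embedding_eq, Fintype.card_fin,
      Fintype.card_fin]
    rfl
  have htr : ∀ y, ∃ g : grp 8, g • base = y := fun y => (horb.symm ▸ Set.mem_univ y : y ∈ MulAction.orbit (grp 8) base)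
  refine ⟨(MulAction.isPretransitive_iff_base base).2 htr, fun y => ?_⟩
  obtain ⟨g, rfl⟩ := htr y
  rw [Subgroup.eq_bot_iff_forall]
  intro k hk
  have h : g⁻¹ * k * g ∈ MulAction.stabilizer (grp 8) base := by
    rw [MulAction.mem_stabilizer_iff] at hk ⊢
    rw [mul_smul, mul_smul]
    exact (congrArg (g⁻¹ • ·) hk).trans (inv_smul_smul g base)
  rw [stab_base, Subgroup.mem_bot] at h
  calc k = g * (g⁻¹ * k * g) * g⁻¹ := by group
    _ = 1 := by rw [h]; group

end H59.M12Chain
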