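import Cfsg.Prelude.Def_CaseTheorems
import Cfsg.Agent.H2.UniqueSubgroup
import Mathlib

/-!
`p`-groups of linear maps transitive on non-zero vectors.
-/

set_option autoImplicit false

namespace H59
namespace PTrans

/-- `x^(2j+1) + s = (x + s) * odd` for odd `x` and `s = ±1`. -/
theorem exists_odd_factor (x s : ℤ) (hx : Odd x) (hs : s * s = 1) (hso : Odd s) (j : ℕ) :
    ∃ m, Odd m ∧ x ^ (2 * j + 1) + s = (x + s) * m := by
  induction j with
  | zero => exact ⟨1, odd_one, by ring⟩
  | succ j ih =>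
    obtain ⟨m, hm, e⟩ := ih
    refine ⟨x ^ 2 * m - s * (x - s), ((hx.pow).mul hm).sub_even ((hx.sub_odd hso).mul_left s), ?_⟩
    have h1 : x ^ (2 * (j + 1) + 1) + s = x ^ 2 * (x ^ (2 * j + 1) + s) - s * (x ^ 2 - s * s) := by
      rw [hs]; ring
    rw [h1, e]; ring

/-- A natural number dividing a power of two and odd is one. -/
theorem odd_dvd_two_pow {m : ℤ} (hm : Odd m) {k : ℕ} (hd : m ∣ 2 ^ k) : m = 1 ∨ m = -1 := by
  have h1 : m.natAbs ∣ 2 ^ k := by
    have := Int.natAbs_dvd_natAbs.2 hd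
    simpa [Int.natAbs_pow] using this
  obtain ⟨i, -, hi⟩ := (Nat.dvd_prime_pow Nat.prime_two).1 h1
  rcases i with _ | i
  · exact Int.natAbs_eq_iff.1 (hi.trans (pow_zero 2))
  · exfalso
    have := Int.natAbs_odd.2 hm
    rw [hi] at this
    exact (Nat.not_even_iff_odd.2 this) (Nat.even_pow.2 ⟨even_two, Nat.succ_ne_zero i⟩)

/-- The solutions of `q^n = p^k + 1`, `p`, `q` primes. -/
theorem pow_eq_pow_succ {p q n k : ℕ} (hp : p.Prime) (hq : q.Prime) (hn : 1 ≤ n)
    (h : q ^ n = p ^ k + 1) :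
    k = 0 ∧ q = 2 ∧ n = 1 ∨ q = 2 ∧ k = 1 ∧ p = 2 ^ n - 1 ∨
      p = 2 ∧ n = 1 ∧ q = 2 ^ k + 1 ∧ q ≠ 2 ∨ p = 2 ∧ q = 3 ∧ n = 2 ∧ k = 3 := by
  by_cases hk : k = 0
  · subst hk
    rw [pow_zero] at h
    left
    have hdvd : q ∣ 2 := ⟨q ^ (n - 1), by rw [← pow_succ', Nat.sub_add_cancel hn, h]⟩
    have hq2 := (Nat.prime_dvd_prime_iff_eq hq Nat.prime_two).1 hdvd
    subst hq2
    exact ⟨rfl, rfl, Nat.pow_right_injective le_rfl (h.trans (pow_one 2).symm)⟩
  by_cases hq2 : q = 2
  · subst hq2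
    right; left
    have hpo : Odd p := by
      refine hp.odd_of_ne_two fun hp2 => ?_
      subst hp2
      have h1 : 2 ∣ 2 ^ n := dvd_pow_self 2 (by omega)
      have h2 : 2 ∣ 2 ^ k := dvd_pow_self 2 hk
      omega
    rcases Nat.even_or_odd k with ⟨j, rfl⟩ | ⟨j, rfl⟩
    · exfalso
      have hjo : Odd (p ^ j) := hpo.pow
      obtain ⟨i, hi⟩ := hjo
      have h3 : p ^ (j + j) = 4 * (i * i + i) + 1 := by rw [pow_add, hi]; ring
      have h4 : 2 ≤ n := by
        by_contra hlt
        have : n = 1 := by omega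
        subst this
        have : 1 < p ^ (j + j) := Nat.one_lt_pow hk hp.one_lt
        omega
      have h5 : 4 ∣ 2 ^ n := by
        rw [show (4 : ℕ) = 2 ^ 2 by norm_num]; exact pow_dvd_pow 2 h4
      omega
    · obtain ⟨m, hm, e⟩ := exists_odd_factor p 1 ((Int.odd_coe_nat p).2 hpo) rfl odd_one j
      have e2 : ((2 : ℤ) ^ n) = (p : ℤ) ^ (2 * j + 1) + 1 := by exact_mod_cast h
      rw [e] at e2
      have hpos : (0 : ℤ) < (p : ℤ) + 1 := by positivity
      rcases odd_dvd_two_pow hm (k := n) (by rw [e2]; exact dvd_mul_left m _) with rfl | rfl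
      · rw [mul_one] at e2
        have e3 : p ^ (2 * j + 1) + 1 = p + 1 := by
          rw [← h]; exact_mod_cast e2
        have e4 : 2 * j + 1 = 1 :=
          Nat.pow_right_injective hp.two_le ((Nat.add_right_cancel e3).trans (pow_one p).symm)
        refine ⟨rfl, e4, ?_⟩
        rw [h, e4, pow_one, Nat.add_sub_cancel]
      · exfalso
        have : (0 : ℤ) < (2 : ℤ) ^ n := by positivity
        omega
  · right; right
    have hqo : Odd q := hq.odd_of_ne_two hq2
    have hp2 : p = 2 := by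
      by_contra hp2
      have h1 : Odd (q ^ n) := hqo.pow
      rw [h] at h1
      exact (Nat.not_even_iff_odd.2 h1) ((hp.odd_of_ne_two hp2).pow.add_odd odd_one)
    subst hp2
    rcases Nat.even_or_odd n with ⟨j, rfl⟩ | ⟨j, rfl⟩
    · right
      obtain ⟨x, hx⟩ : ∃ x, x = q ^ j := ⟨_, rfl⟩
      have hj : j ≠ 0 := by omega
      have hx3 : 3 ≤ x := by
        have := Nat.le_self_pow hj q
        have := hq.two_le
        omega
      have hfac : (x - 1) * (x + 1) = 2 ^ k := by
        rw [pow_add, ← hx] at h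
        obtain ⟨y, rfl⟩ : ∃ y, x = y + 1 := ⟨x - 1, by omega⟩
        rw [Nat.add_sub_cancel]
        nlinarith
      obtain ⟨a, -, ha⟩ := (Nat.dvd_prime_pow Nat.prime_two).1 (hfac ▸ dvd_mul_right (x - 1) (x + 1))
      obtain ⟨b, -, hb⟩ := (Nat.dvd_prime_pow Nat.prime_two).1 (hfac ▸ dvd_mul_left (x + 1) (x - 1))
      have ha1 : a ≤ 1 := by
        by_contra hlt
        have hab : a < b := (Nat.pow_lt_pow_iff_right one_lt_two).1 (show 2 ^ a < 2 ^ b by omega)
        have h4a : (4 : ℕ) ∣ 2 ^ a := by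
          rw [show (4 : ℕ) = 2 ^ 2 by norm_num]; exact pow_dvd_pow 2 (by omega)
        have h4b : (4 : ℕ) ∣ 2 ^ b := by
          rw [show (4 : ℕ) = 2 ^ 2 by norm_num]; exact pow_dvd_pow 2 (by omega)
        omega
      have hx' : x = 3 := by
        interval_cases a <;> simp at ha <;> omega
      have hq3 : q = 3 ∧ j = 1 := by
        have hd : q ∣ 3 := hx' ▸ hx ▸ dvd_pow_self q hj
        have := (Nat.prime_dvd_prime_iff_eq hq Nat.prime_three).1 hd
        subst this
        exact ⟨rfl, Nat.pow_right_injective (le_refl 2 |>.trans (by norm_num))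
          ((hx.symm.trans hx').trans (pow_one 3).symm)⟩
      obtain ⟨rfl, rfl⟩ := hq3
      refine ⟨rfl, rfl, rfl, Nat.pow_right_injective le_rfl (show 2 ^ k = 2 ^ 3 by omega)⟩
    · left
      obtain ⟨m, hm, e⟩ := exists_odd_factor q (-1) ((Int.odd_coe_nat q).2 hqo) rfl
        (by decide) j
      have e2 : ((2 : ℤ) ^ k) = (q : ℤ) ^ (2 * j + 1) + -1 := by
        have : ((q : ℤ) ^ (2 * j + 1)) = 2 ^ k + 1 := by exact_mod_cast h
        rw [this]; ring
      rw [e] at e2
      have hpos : (0 : ℤ) < (q : ℤ) + -1 := by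
        have := hq.two_le
        omega
      rcases odd_dvd_two_pow hm (k := k) (by rw [e2]; exact dvd_mul_left m _) with rfl | rfl
      · rw [mul_one] at e2
        have e3 : q ^ (2 * j + 1) = q := by
          have h6 : ((2 : ℤ) ^ k) + 1 = q := by omega
          rw [h]; exact_mod_cast h6
        have e4 : 2 * j + 1 = 1 := Nat.pow_right_injective hq.two_le (e3.trans (pow_one q).symm)
        refine ⟨rfl, e4, ?_, hq2⟩
        rw [← h, e3]
      · exfalso
        have : (0 : ℤ) < (2 : ℤ) ^ k := by positivity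
        omega

section Linear

variable {V : Type*} [AddCommGroup V] [Module (ZMod 3) V] [Finite V]

theorem zmod3_sq : ∀ a : ZMod 3, a ≠ 0 → a * a = 1 := by decide

theorem three_eq (x : V) : x + x = -x := by
  have h : ((1 : ZMod 3) + 1) • x = (-1 : ZMod 3) • x := by rw [show ((1 : ZMod 3) + 1) = -1 by decide]
  simpa [add_smul] using h

/-- A space with nine elements and a non-scalar involution: the two eigenlines span. -/
theorem eigen_basis (hV : Nat.card V = 9) {z : Module.End (ZMod 3) V} (hz : z * z = 1) (hz1 : z ≠ 1)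
    (hz2 : z ≠ -1) :
    ∃ v w : V, v ≠ 0 ∧ w ≠ 0 ∧ z v = v ∧ z w = -w ∧
      (∀ x : V, ∃ a b : ZMod 3, x = a • v + b • w) ∧
      (∀ x : V, z x = x → ∃ a : ZMod 3, x = a • v) ∧
      (∀ x : V, z x = -x → ∃ b : ZMod 3, x = b • w) := by
  have hzz : ∀ x, z (z x) = x := fun x => LinearMap.congr_fun hz x
  obtain ⟨u, hu⟩ : ∃ u, z u ≠ -u := by
    by_contra h; push Not at h; exact hz2 (LinearMap.ext fun x => by simp [h x])
  obtain ⟨u', hu'⟩ : ∃ u, z u ≠ u := by
    by_contra h; push Not at h; exact hz1 (LinearMap.ext fun x => by simp [h x])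
  obtain ⟨v, hv⟩ : ∃ v, v = u + z u := ⟨_, rfl⟩
  obtain ⟨w, hw⟩ : ∃ w, w = u' - z u' := ⟨_, rfl⟩
  have hv0 : v ≠ 0 := fun h => hu (by rw [hv] at h; exact (neg_eq_of_add_eq_zero_right h).symm)
  have hw0 : w ≠ 0 := fun h => hu' (by rw [hw, sub_eq_zero] at h; exact h.symm)
  have hzv : z v = v := by rw [hv, map_add, hzz, add_comm]
  have hzw : z w = -w := by rw [hw, map_sub, hzz, neg_sub]
  let f : ZMod 3 × ZMod 3 → V := fun c => c.1 • v + c.2 • w
  have hfz : ∀ a b : ZMod 3, z (a • v + b • w) = a • v - b • w := fun a b => by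
    rw [map_add, map_smul, map_smul, hzv, hzw, smul_neg, sub_eq_add_neg]
  have hker : ∀ a b : ZMod 3, a • v + b • w = 0 → a = 0 ∧ b = 0 := by
    intro a b h
    have h2 := congrArg z h
    rw [hfz, map_zero] at h2
    have h3 : a • v + a • v = 0 := by
      calc a • v + a • v = (a • v + b • w) + (a • v - b • w) := by abel
        _ = 0 := by rw [h, h2, add_zero]
    rw [three_eq, neg_eq_zero, smul_eq_zero] at h3
    have ha := h3.resolve_right hv0
    rw [ha, zero_smul, zero_add, smul_eq_zero] at h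
    exact ⟨ha, h.resolve_right hw0⟩
  have hinj : Function.Injective f := by
    rintro ⟨a, b⟩ ⟨c, d⟩ h
    have := hker (a - c) (b - d) (by
      rw [sub_smul, sub_smul, sub_add_sub_comm, sub_eq_zero]; exact h)
    exact Prod.ext (sub_eq_zero.1 this.1) (sub_eq_zero.1 this.2)
  have hsurj := (hinj.bijective_of_nat_card_le (by rw [hV, Nat.card_prod, Nat.card_zmod])).2
  have hrep : ∀ x : V, ∃ a b : ZMod 3, x = a • v + b • w := fun x => by
    obtain ⟨⟨a, b⟩, h⟩ := hsurj x; exact ⟨a, b, h.symm⟩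
  refine ⟨v, w, hv0, hw0, hzv, hzw, hrep, fun x hx => ?_, fun x hx => ?_⟩
  · obtain ⟨a, b, rfl⟩ := hrep x
    rw [hfz] at hx
    have := hker 0 (b + b) (by
      rw [zero_smul, zero_add, add_smul]
      calc b • w + b • w = (a • v + b • w) - (a • v - b • w) := by abel
        _ = 0 := by rw [hx, sub_self])
    have hb : b = 0 := (by decide : ∀ c : ZMod 3, c + c = 0 → c = 0) b this.2
    exact ⟨a, by rw [hb, zero_smul, add_zero]⟩
  · obtain ⟨a, b, rfl⟩ := hrep x
    rw [hfz] at hx
    have := hker (a + a) 0 (by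
      rw [zero_smul, add_zero, add_smul]
      calc a • v + a • v = (a • v + b • w) + (a • v - b • w) := by abel
        _ = 0 := by rw [hx, add_neg_cancel])
    have ha : a = 0 := (by decide : ∀ c : ZMod 3, c + c = 0 → c = 0) a this.1
    exact ⟨b, by rw [ha, zero_smul, zero_add]⟩

/-- An invertible map commuting with a non-scalar involution squares to one. -/
theorem sq_of_commute (hV : Nat.card V = 9) {z g : Module.End (ZMod 3) V} (hz : z * z = 1)
    (hz1 : z ≠ 1) (hz2 : z ≠ -1) (hg : Function.Injective g) (hcomm : z * g = g * z) :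
    g * g = 1 := by
  obtain ⟨v, w, hv0, hw0, hzv, hzw, hrep, hfix, hanti⟩ := eigen_basis hV hz hz1 hz2
  obtain ⟨a, ha⟩ := hfix (g v) (by rw [← Module.End.mul_apply, hcomm, Module.End.mul_apply, hzv])
  obtain ⟨b, hb⟩ := hanti (g w) (by
    rw [← Module.End.mul_apply, hcomm, Module.End.mul_apply, hzw, map_neg])
  have ha0 : a ≠ 0 := fun h => hv0 (hg (by rw [ha, h, zero_smul, map_zero]))
  have hb0 : b ≠ 0 := fun h => hw0 (hg (by rw [hb, h, zero_smul, map_zero]))
  refine LinearMap.ext fun x => ?_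
  obtain ⟨c, d, rfl⟩ := hrep x
  simp only [Module.End.mul_apply, Module.End.one_apply, map_add, map_smul, ha, hb, smul_smul,
    mul_assoc, zmod3_sq a ha0, zmod3_sq b hb0, mul_one]

end Linear

end PTrans
end H59
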