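import Cfsg.Agent.H58.SharplyTwo
import Cfsg.Agent.H37.Line
import Mathlib

/-!
Zassenhaus: a sharply 3-transitive group with commutative two-point stabilisers is `PGL(2,K)`.
-/

set_option autoImplicit false
open scoped LinearAlgebra.Projectivization MatrixGroups
open Matrix

namespace H59

universe u v

variable {G : Type u} [Group G] {X : Type v} [MulAction G X]

/-- a near-field with commutative multiplication is a field -/
noncomputable def fieldOfNearField {F : Type*} [Cfsg.NearField F] (hc : ∀ a b : F, a * b = b * a) :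
    Field F :=
  have hd : ∀ a b c : F, a * (b + c) = a * b + a * c := fun a b c => by
    rw [hc a (b + c), Cfsg.NearField.right_distrib, hc b a, hc c a]
  have h0 : ∀ a : F, (0 : F) * a = 0 := fun a => by rw [hc, Cfsg.NearField.mul_zero]
  have hadd : ∀ a b : F, a + b = b + a := fun a b => by
    have h : (a + b) * (1 + 1) = a * (1 + 1) + b * (1 + 1) := Cfsg.NearField.right_distrib a b (1 + 1)
    rw [hd, hd, hd, mul_one, mul_one, mul_one] at h
    have h2 : a + ((b + a) + b) = a + ((a + b) + b) := by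
      simpa only [add_assoc] using h
    exact (add_right_cancel (add_left_cancel h2)).symm
  letI := Classical.decEq F
  { (inferInstance : AddGroup F), (inferInstance : Monoid F) with
      add_comm := hadd
      left_distrib := hd
      right_distrib := Cfsg.NearField.right_distrib
      zero_mul := h0
      mul_zero := Cfsg.NearField.mul_zero
      mul_comm := hc
      inv := fun a => if ha : a = 0 then 0 else (Cfsg.NearField.exists_inv a ha).choose
      exists_pair_ne := ⟨0, 1, Cfsg.NearField.zero_ne_one⟩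
      mul_inv_cancel := fun a ha => by
        show a * (if ha : a = 0 then 0 else (Cfsg.NearField.exists_inv a ha).choose) = 1
        rw [dif_neg ha]
        exact (Cfsg.NearField.exists_inv a ha).choose_spec.1
      inv_zero := dif_pos rfl
      nnqsmul := _
      nnqsmul_def := fun _ _ => rfl
      qsmul := _
      qsmul_def := fun _ _ => rfl }

/-- a finite field transported to `Type` -/
theorem exists_small_field {Y : Type*} [Field Y] [Fintype Y] :
    ∃ (K : Type) (_ : Field K) (_ : Fintype K), Nonempty (K ≃+* Y) := by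
  letI FK : Field (Fin (Fintype.card Y)) := (Fintype.equivFin Y).symm.field
  exact ⟨Fin (Fintype.card Y), FK, inferInstance, ⟨(Fintype.equivFin Y).symm.ringEquiv⟩⟩

theorem triple_exists [Fintype X] {a b c : X} (hab : a ≠ b) (hac : a ≠ c) (hbc : b ≠ c) :
    ∃ e : Fin 3 ↪ X, e 0 = a ∧ e 1 = b ∧ e 2 = c := by
  refine ⟨⟨![a, b, c], fun i j h => ?_⟩, rfl, rfl, rfl⟩
  fin_cases i <;> fin_cases j <;> first
    | rfl
    | (exfalso; simp only [Matrix.cons_val_zero, Matrix.cons_val_one, Matrix.cons_val, Fin.zero_eta, Fin.mk_one, Fin.reduceFinMk] at h;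
       first | exact hab h | exact hac h | exact hbc h | exact hab h.symm | exact hac h.symm | exact hbc h.symm)

theorem exists_three [Fintype X] (h3 : MulAction.IsMultiplyPretransitive G X 3) {a b c a' b' c' : X}
    (hab : a ≠ b) (hac : a ≠ c) (hbc : b ≠ c) (hab' : a' ≠ b') (hac' : a' ≠ c') (hbc' : b' ≠ c') :
    ∃ g : G, g • a = a' ∧ g • b = b' ∧ g • c = c' := by
  obtain ⟨e, rfl, rfl, rfl⟩ := triple_exists hab hac hbc
  obtain ⟨e', rfl, rfl, rfl⟩ := triple_exists hab' hac' hbc'
  obtain ⟨g, hg⟩ := h3.exists_smul_eq e e'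
  exact ⟨g, congrArg (fun f : Fin 3 ↪ X => f 0) hg, congrArg (fun f : Fin 3 ↪ X => f 1) hg,
    congrArg (fun f : Fin 3 ↪ X => f 2) hg⟩

/-- move affine coordinates on `X - w` to a field in `Type` -/
theorem exists_coord_of_field [DecidableEq X] {Y : Type*} [FY : Field Y] [Fintype Y] (w : X)
    (i : Y ≃ {x : X // x ≠ w})
    (hA : ∀ a b : Y, a ≠ 0 → ∃ g : G, g • w = w ∧ ∀ x : Y, g • (i x : X) = (i (x * a + b) : X))
    (hB : ∀ g : G, g • w = w → ∃ a b : Y, a ≠ 0 ∧ ∀ x : Y, g • (i x : X) = (i (x * a + b) : X)) :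
    ∃ (K : Type) (_ : Field K) (_ : Fintype K) (p : Option K ≃ X), p none = w ∧
      (∀ a b : K, a ≠ 0 → ∃ g : G, g • w = w ∧ ∀ x : K, g • p (some x) = p (some (x * a + b))) ∧
      (∀ g : G, g • w = w → ∃ a b : K, a ≠ 0 ∧ ∀ x : K, g • p (some x) = p (some (x * a + b))) := by
  obtain ⟨K, FK, hKf, ⟨r⟩⟩ := exists_small_field (Y := Y)
  let p : Option K ≃ X :=
    (Equiv.optionCongr (r.toEquiv.trans i)).trans (Equiv.optionSubtypeNe w)
  have hp : ∀ x, p (some x) = (i (r x) : X) := fun x => rfl
  refine ⟨K, FK, hKf, p, rfl, ?_, ?_⟩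
  · intro a b ha
    obtain ⟨g, h1, h2⟩ := hA (r a) (r b) (fun h => ha ((map_eq_zero_iff r r.injective).1 h))
    exact ⟨g, h1, fun x => by rw [hp, hp, h2, map_add r, map_mul r]⟩
  · intro g hg
    obtain ⟨a, b, ha, hab⟩ := hB g hg
    refine ⟨r.symm a, r.symm b, fun h => ha ((map_eq_zero_iff r.symm r.symm.injective).1 h), fun x => ?_⟩
    rw [hp, hp, map_add r, map_mul r, r.apply_symm_apply, r.apply_symm_apply, hab]

/-- coordinates of the point stabiliser: it is the affine group of a near-field -/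
theorem exists_nearfield_coord [Fintype X] [DecidableEq X] (hcard : 3 ≤ Fintype.card X)
    (h3 : MulAction.IsMultiplyPretransitive G X 3)
    (hfix : ∀ g : G, ∀ a b c : X, a ≠ b → a ≠ c → b ≠ c → g • a = a → g • b = b → g • c = c → g = 1)
    (w : X) : ∃ _ : Cfsg.NearField (SubMulAction.ofStabilizer G w),
      Nat.card (SubMulAction.ofStabilizer G w) + 1 = Fintype.card X ∧
      (∀ a b : SubMulAction.ofStabilizer G w, a ≠ 0 → ∃ g : G, g • w = w ∧
        ∀ x : SubMulAction.ofStabilizer G w,
          g • (x : X) = ((x * a + b : SubMulAction.ofStabilizer G w) : X)) ∧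
      (∀ g : G, g • w = w → ∃ a b : SubMulAction.ofStabilizer G w, a ≠ 0 ∧
        ∀ x : SubMulAction.ofStabilizer G w,
          g • (x : X) = ((x * a + b : SubMulAction.ofStabilizer G w) : X)) := by
  classical
  haveI := h3
  let Y := SubMulAction.ofStabilizer G w
  haveI : Fintype Y := Fintype.ofFinite Y
  let H : Subgroup (Equiv.Perm Y) := (MulAction.toPermHom (MulAction.stabilizer G w) Y).range
  have hYcard : Fintype.card Y = Fintype.card X - 1 := by
    rw [← Nat.card_eq_fintype_card]
    have : Nat.card Y = Nat.card {x : X // x ≠ w} :=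
      Nat.card_congr (Equiv.subtypeEquivRight fun x => SubMulAction.mem_ofStabilizer_iff G w)
    rw [this, Nat.card_eq_fintype_card, Fintype.card_subtype_compl, Fintype.card_subtype_eq]
  have hY : ∀ y : Y, (y : X) ≠ w := fun y => (SubMulAction.mem_ofStabilizer_iff G w).1 y.2
  have h2 : MulAction.IsMultiplyPretransitive H Y 2 := by
    rw [MulAction.is_two_pretransitive_iff]
    intro a b c d hab hcd
    obtain ⟨g, hw, ha, hb⟩ := exists_three h3 (hY a).symm (hY b).symm (fun e => hab (Subtype.ext e))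
      (hY c).symm (hY d).symm (fun e => hcd (Subtype.ext e))
    exact ⟨⟨_, ⟨⟨g, hw⟩, rfl⟩⟩, Subtype.ext ha, Subtype.ext hb⟩
  have hsharp : ∀ x : Fin 2 ↪ Y, MulAction.stabilizer H x = ⊥ := by
    intro x
    rw [Subgroup.eq_bot_iff_forall]
    rintro ⟨_, ⟨g, rfl⟩⟩ hg
    rw [MulAction.mem_stabilizer_iff] at hg
    have h0 : (g : G) • ((x 0 : Y) : X) = x 0 := congrArg (fun f : Fin 2 ↪ Y => ((f 0 : Y) : X)) hg
    have h1 : (g : G) • ((x 1 : Y) : X) = x 1 := congrArg (fun f : Fin 2 ↪ Y => ((f 1 : Y) : X)) hg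
    have : (g : G) = 1 := hfix _ w (x 0 : Y) (x 1 : Y) (hY _).symm (hY _).symm
      (fun e => absurd (x.injective (Subtype.ext e)) (by decide)) g.2 h0 h1
    apply Subtype.ext
    have hg1 : g = 1 := Subtype.ext this
    show (MulAction.toPermHom (MulAction.stabilizer G w) Y) g = 1
    rw [hg1, map_one]
  obtain ⟨NF, hNF⟩ := H58.exists_nearField H h2 hsharp (by omega)
  have haff : ∀ a b : Y, a ≠ 0 → ∃ g : G, g • w = w ∧ ∀ x : Y, g • (x : X) = ((x * a + b : Y) : X) := by
    intro a b ha
    have hbij : Function.Bijective (fun x : Y => x * a + b) := by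
      obtain ⟨a', h1, h2⟩ := Cfsg.NearField.exists_inv a ha
      refine ⟨fun x y hxy => ?_, fun y => ⟨(y + -b) * a', ?_⟩⟩
      · have h := congrArg (fun z => (z + -b) * a') hxy
        simp only [add_neg_cancel_right, mul_assoc, h1, mul_one] at h
        exact h
      · simp only [mul_assoc, h2, mul_one, neg_add_cancel_right]
    obtain ⟨⟨g, hg⟩, hgσ⟩ := (hNF (Equiv.ofBijective _ hbij)).2 ⟨a, b, ha, fun x => rfl⟩
    refine ⟨g, hg, fun x => ?_⟩
    exact congrArg (fun σ : Equiv.Perm Y => ((σ x : Y) : X)) hgσ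
  have hall : ∀ g : G, g • w = w → ∃ a b : Y, a ≠ 0 ∧ ∀ x : Y, g • (x : X) = ((x * a + b : Y) : X) := by
    intro g hg
    obtain ⟨a, b, ha, hab⟩ := (hNF _).1 ⟨⟨g, hg⟩, rfl⟩
    exact ⟨a, b, ha, fun x => congrArg Subtype.val (hab x)⟩
  exact ⟨NF, by rw [Nat.card_eq_fintype_card, hYcard]; omega, haff, hall⟩

/-- coordinates of the point stabiliser: it is the affine group of a field -/
theorem exists_affine_coord [Fintype X] [DecidableEq X] (hcard : 3 ≤ Fintype.card X)
    (h3 : MulAction.IsMultiplyPretransitive G X 3)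
    (hfix : ∀ g : G, ∀ a b c : X, a ≠ b → a ≠ c → b ≠ c → g • a = a → g • b = b → g • c = c → g = 1)
    (w : X) (hcomm : ∀ o : X, o ≠ w → ∀ g h : G, g • w = w → g • o = o → h • w = w → h • o = o → g * h = h * g) :
    ∃ (K : Type) (_ : Field K) (_ : Fintype K) (p : Option K ≃ X), p none = w ∧
      (∀ a b : K, a ≠ 0 → ∃ g : G, g • w = w ∧ ∀ x : K, g • p (some x) = p (some (x * a + b))) ∧
      (∀ g : G, g • w = w → ∃ a b : K, a ≠ 0 ∧ ∀ x : K, g • p (some x) = p (some (x * a + b))) := by
  classical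
  obtain ⟨NF, hYcard, haff, hall⟩ := exists_nearfield_coord hcard h3 hfix w
  let Y := SubMulAction.ofStabilizer G w
  haveI : Fintype Y := Fintype.ofFinite Y
  have hY : ∀ y : Y, (y : X) ≠ w := fun y => (SubMulAction.mem_ofStabilizer_iff G w).1 y.2
  have hc : ∀ a b : Y, a * b = b * a := by
    intro a b
    have hz : ∀ c : Y, (0 : Y) * c = 0 := by
      intro c
      have h := Cfsg.NearField.right_distrib (0 : Y) 0 c
      rw [add_zero] at h
      have := congrArg (fun z => -((0 : Y) * c) + z) h
      simp only [neg_add_cancel, neg_add_cancel_left] at this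
      exact this.symm
    by_cases ha : a = 0
    · rw [ha, hz, Cfsg.NearField.mul_zero]
    by_cases hb : b = 0
    · rw [hb, hz, Cfsg.NearField.mul_zero]
    obtain ⟨ga, ga1, ga2⟩ := haff a 0 ha
    obtain ⟨gb, gb1, gb2⟩ := haff b 0 hb
    have h0a : ga • ((0 : Y) : X) = (0 : Y) := by rw [ga2, hz, add_zero]
    have h0b : gb • ((0 : Y) : X) = (0 : Y) := by rw [gb2, hz, add_zero]
    have h := congrArg (fun g : G => g • ((1 : Y) : X)) (hcomm _ (hY 0) ga gb ga1 h0a gb1 h0b)
    simp only [mul_smul, ga2, gb2, add_zero, one_mul] at h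
    exact (Subtype.ext h).symm
  exact exists_coord_of_field (FY := fieldOfNearField hc) w
    (Equiv.subtypeEquivRight fun x => SubMulAction.mem_ofStabilizer_iff G w) haff hall

/-- The inversion of a sharply 3-transitive group in affine coordinates. -/
theorem exists_inversion [Fintype X] [DecidableEq X] {K : Type} [Field K]
    (h3 : MulAction.IsMultiplyPretransitive G X 3)
    (hfix : ∀ g : G, ∀ a b c : X, a ≠ b → a ≠ c → b ≠ c → g • a = a → g • b = b → g • c = c → g = 1)
    (p : Option K ≃ X)
    (hA : ∀ a b : K, a ≠ 0 → ∃ g : G, g • p none = p none ∧ ∀ x : K, g • p (some x) = p (some (x * a + b)))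
    (hB : ∀ g : G, g • p none = p none → ∃ a b : K, a ≠ 0 ∧ ∀ x : K, g • p (some x) = p (some (x * a + b))) :
    ∃ s : G, s • p none = p (some 0) ∧ s • p (some 0) = p none ∧
      ∀ x : K, x ≠ 0 → s • p (some x) = p (some x⁻¹) := by
  classical
  have hne1 : p none ≠ p (some 0) := p.injective.ne (by simp)
  have hne2 : p none ≠ p (some 1) := p.injective.ne (by simp)
  have hne3 : p (some 0) ≠ p (some 1) := p.injective.ne (by simp)
  obtain ⟨s, hs1, hs2, hs3⟩ := exists_three h3 hne1 hne2 hne3 hne1.symm hne3 hne2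
  have hss : ∀ z : X, s • s • z = z := by
    intro z
    have : s * s = 1 := hfix _ _ _ _ hne1 hne2 hne3 (by rw [mul_smul, hs1, hs2]) (by rw [mul_smul, hs2, hs1])
      (by rw [mul_smul, hs3, hs3])
    rw [← mul_smul, this, one_smul]
  refine ⟨s, hs1, hs2, ?_⟩
  have hj : ∀ x : K, x ≠ 0 → ∃ y : K, y ≠ 0 ∧ s • p (some x) = p (some y) := by
    intro x hx
    rcases hy : p.symm (s • p (some x)) with _ | y
    · exfalso
      rw [Equiv.symm_apply_eq] at hy
      rw [← hs2] at hy
      exact hx (Option.some.inj (p.injective (MulAction.injective s hy)))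
    · rw [Equiv.symm_apply_eq] at hy
      refine ⟨y, fun h => ?_, hy⟩
      subst h
      rw [← hs1] at hy
      simpa using p.injective (MulAction.injective s hy)
  choose! j hj0 hj using hj
  have hjj : ∀ x, x ≠ 0 → j (j x) = x := fun x hx => by
    have := hss (p (some x))
    rw [hj x hx, hj _ (hj0 x hx)] at this
    exact Option.some.inj (p.injective this)
  have hj1 : j 1 = 1 := by
    have := hj 1 one_ne_zero
    rw [hs3] at this
    exact (Option.some.inj (p.injective this)).symm
  have hjm : ∀ a x, a ≠ 0 → x ≠ 0 → j (x * a) = j x * j a := by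
    intro a x ha hx
    obtain ⟨g, hgw, hg⟩ := hA a 0 ha
    obtain ⟨c, d, -, hcd⟩ := hB (s * g * s) (by
      rw [mul_smul, mul_smul, hs1, hg, zero_mul, add_zero, hs2])
    have hd : d = 0 := by
      have h := hcd 0
      rw [mul_smul, mul_smul, hs2, hgw, hs1, zero_mul, zero_add] at h
      exact (Option.some.inj (p.injective h)).symm
    have hc : c = j a := by
      have h := hcd 1
      rw [mul_smul, mul_smul, hs3, hg, one_mul, add_zero, hj a ha, one_mul, hd, add_zero] at h
      exact (Option.some.inj (p.injective h)).symm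
    have h := hcd (j x)
    rw [mul_smul, mul_smul, ← hj x hx, hss, hg, add_zero, hj _ (mul_ne_zero hx ha), hd, hc, add_zero] at h
    exact Option.some.inj (p.injective h)
  -- fixed points of `j` are `± 1`
  have hfixj : ∀ x : K, x ≠ 0 → j x = x → x = 1 ∨ x = -1 := by
    intro x hx hjx
    by_contra! hcon
    obtain ⟨hx1, hx2⟩ := hcon
    have hx21 : x * x ≠ 1 := fun h => (mul_self_eq_one_iff.1 h).elim hx1 hx2
    have hxx : x * x ≠ x := fun h => hx1 (mul_right_cancel₀ hx (h.trans (one_mul x).symm))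
    have : s = 1 := hfix s (p (some 1)) (p (some x)) (p (some (x * x)))
      (p.injective.ne fun h => hx1 (Option.some.inj h).symm)
      (p.injective.ne fun h => hx21 (Option.some.inj h).symm)
      (p.injective.ne fun h => hxx (Option.some.inj h).symm)
      hs3 (by rw [hj x hx, hjx]) (by rw [hj _ (mul_ne_zero hx hx), hjm x x hx hx, hjx])
    rw [this, one_smul] at hs1
    exact hne1 hs1
  have hchi : ∀ x : K, x ≠ 0 → x * j x = 1 ∨ x * j x = -1 := fun x hx =>
    hfixj _ (mul_ne_zero hx (hj0 x hx)) (by rw [hjm _ _ (hj0 x hx) hx, hjj x hx, mul_comm])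
  have hjneg1 : j (-1) = -1 := by
    have h : j (-1) * j (-1) = 1 := by
      rw [← hjm (-1) (-1) (neg_ne_zero.2 one_ne_zero) (neg_ne_zero.2 one_ne_zero), neg_mul_neg, one_mul, hj1]
    rcases mul_self_eq_one_iff.1 h with h1 | h1
    · have h2 := hjj (-1) (neg_ne_zero.2 one_ne_zero)
      rw [h1, hj1] at h2
      rw [h1]; exact h2
    · exact h1
  have hjneg : ∀ x : K, x ≠ 0 → j (-x) = -(j x) := fun x hx => by
    rw [show -x = x * -1 by ring, hjm _ _ (neg_ne_zero.2 one_ne_zero) hx, hjneg1]; ring
  -- the functional equation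
  have hfun : ∀ u : K, u ≠ 0 → u + 1 ≠ 0 → j (1 + j u) + j (1 + u) = 1 := by
    intro u hu hu1
    obtain ⟨t, htw, ht⟩ := hA 1 1 one_ne_zero
    obtain ⟨t', htw', ht'⟩ := hA 1 (-1) one_ne_zero
    obtain ⟨a, c, -, hg⟩ := hB (s * t' * s * t * s) (by
      rw [mul_smul, mul_smul, mul_smul, mul_smul, hs1, ht, zero_mul, zero_add, hs3, ht', one_mul, add_neg_cancel, hs2])
    have hm1 : (-1 : K) ≠ 0 := neg_ne_zero.2 one_ne_zero
    have hc : c = -1 := by
      have h := hg 0
      rw [mul_smul, mul_smul, mul_smul, mul_smul, hs2, htw, hs1, ht', zero_mul, zero_add, hj _ hm1, hjneg1] at h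
      simpa using (Option.some.inj (p.injective h)).symm
    have ha : a = -1 := by
      have h := hg (-1)
      rw [mul_smul, mul_smul, mul_smul, mul_smul, hj _ hm1, hjneg1, ht, mul_one, neg_add_cancel, hs2, htw', hs1, hc] at h
      have h2 := Option.some.inj (p.injective h)
      linear_combination h2
    have h1 : j u + 1 ≠ 0 := fun h => hu1 (by
      have := hjj u hu
      rw [eq_neg_of_add_eq_zero_left h, hjneg1] at this
      rw [← this]; ring)
    have h := hg u
    rw [mul_smul, mul_smul, mul_smul, mul_smul, hj u hu, ht, mul_one, hj _ h1, ht', mul_one] at h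
    have h2 : j (j u + 1) + -1 ≠ 0 := by
      intro e
      rw [e, hs2] at h
      simpa using p.injective h
    rw [hj _ h2] at h
    have h3 := congrArg j (Option.some.inj (p.injective h))
    rw [hjj _ h2, ha, hc, show u * -1 + -1 = -(1 + u) by ring, hjneg _ (by rwa [add_comm])] at h3
    rw [add_comm 1 (j u)]
    linear_combination h3
  have hinv : ∀ x : K, x ≠ 0 → x * j x = 1 := by
    intro u hu
    rcases hchi u hu with h | h
    · exact h
    by_cases h2 : (2 : K) = 0
    · rw [h]; linear_combination -h2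
    exfalso
    have root : ∀ v : K, v ≠ 0 → v * j v = -1 → v * v + v - 1 = 0 := by
      intro v hv hvv
      have hv1 : v + 1 ≠ 0 := fun e => by
        rw [eq_neg_of_add_eq_zero_left e, hjneg1] at hvv
        exact h2 (by linear_combination hvv)
      have h1v : 1 + v ≠ 0 := by rwa [add_comm]
      have hw : 1 + j v ≠ 0 := fun e => by
        have := hjj v hv
        rw [eq_neg_of_add_eq_zero_right e, hjneg1] at this
        exact hv1 (by rw [← this]; ring)
      have e := hfun v hv hv1
      have e3 : v * (1 + j v) = v - 1 := by linear_combination hvv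
      rcases hchi _ hw with c1 | c1 <;> rcases hchi _ h1v with a1 | a1
      · exfalso; exact h2 (by
          have : 2 * v = 0 := by
            linear_combination (1 + v) * v * (1 + j v) * e - v * (1 + v) * c1 - v * (1 + j v) * a1 + (v) * e3
          exact (mul_eq_zero.1 this).resolve_right hv)
      · exfalso; exact h2 (by
          linear_combination (1 + v) * v * (1 + j v) * e - v * (1 + v) * c1 - v * (1 + j v) * a1 + (v + 2) * e3)
      · exfalso; exact h2 (by
          have : 2 * (v * v) = 0 := by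
            linear_combination -((1 + v) * v * (1 + j v) * e - v * (1 + v) * c1 - v * (1 + j v) * a1 + v * e3)
          exact (mul_eq_zero.1 this).resolve_right (mul_ne_zero hv hv))
      · have : 2 * (v * v + v - 1) = 0 := by
          linear_combination -((1 + v) * v * (1 + j v) * e - v * (1 + v) * c1 - v * (1 + j v) * a1 + (v + 2) * e3)
        exact (mul_eq_zero.1 this).resolve_left h2
    have r1 := root u hu h
    have r2 := root (-u) (neg_ne_zero.2 hu) (by rw [hjneg u hu, neg_mul_neg]; exact h)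
    have : 2 * u = 0 := by linear_combination r1 - r2
    exact hu ((mul_eq_zero.1 this).resolve_left h2)
  intro x hx
  rw [hj x hx, eq_inv_of_mul_eq_one_right (hinv x hx)]

/-- the coordinates of a point of the projective line -/
noncomputable def lineCoord {K : Type*} [Field K] : Option K → ℙ K (Fin 2 → K)
  | none => Projectivization.mk K ![1, 0] (fun h => by simpa using congrFun h 0)
  | some x => Projectivization.mk K ![x, 1] (fun h => by simpa using congrFun h 1)

theorem lineCoord_bijective {K : Type*} [Field K] :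
    Function.Bijective (lineCoord : Option K → ℙ K (Fin 2 → K)) := by
  constructor
  · rintro (_ | x) (_ | y) h
    · rfl
    · obtain ⟨a, ha⟩ := (Projectivization.mk_eq_mk_iff' K _ _ _ _).1 h
      have h0 := congrFun ha 0
      have h1 := congrFun ha 1
      simp at h0 h1
      simp [h1] at h0
    · obtain ⟨a, ha⟩ := (Projectivization.mk_eq_mk_iff' K _ _ _ _).1 h
      have h1 := congrFun ha 1
      simp at h1
    · obtain ⟨a, ha⟩ := (Projectivization.mk_eq_mk_iff' K _ _ _ _).1 h
      have h0 := congrFun ha 0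
      have h1 := congrFun ha 1
      simp at h0 h1
      simp [h1] at h0
      rw [h0]
  · intro z
    induction z using Projectivization.ind with | _ v hv => ?_
    by_cases h1 : v 1 = 0
    · refine ⟨none, ?_⟩
      have h0 : v 0 ≠ 0 := fun h0 => hv (funext fun i => by fin_cases i <;> assumption)
      refine (Projectivization.mk_eq_mk_iff' K _ _ _ _).2 ⟨(v 0)⁻¹, ?_⟩
      funext i
      fin_cases i <;> simp [h0, h1]
    · refine ⟨some (v 0 / v 1), ?_⟩
      refine (Projectivization.mk_eq_mk_iff' K _ _ _ _).2 ⟨(v 1)⁻¹, ?_⟩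
      funext i
      fin_cases i <;> simp [h1, div_eq_inv_mul]

theorem lineCoord_affine {K : Type*} [Field K] (a b : K) (ha : a ≠ 0) :
    ∃ M : PGL(2, K), M • lineCoord none = lineCoord (none : Option K) ∧
      ∀ x : K, M • lineCoord (some x) = lineCoord (some (x * a + b)) := by
  refine ⟨.mk (GeneralLinearGroup.mkOfDetNeZero !![a, b; 0, 1] (by simpa [det_fin_two_of] using ha)), ?_, ?_⟩
  · refine (Projectivization.mk_eq_mk_iff' K _ _ _ _).2 ⟨a, ?_⟩
    change _ = (!![a, b; 0, 1] : Matrix (Fin 2) (Fin 2) K) *ᵥ _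
    funext i
    fin_cases i <;> simp [Matrix.mulVec, dotProduct]
  · intro x
    refine (Projectivization.mk_eq_mk_iff' K _ _ _ _).2 ⟨1, ?_⟩
    change _ = (!![a, b; 0, 1] : Matrix (Fin 2) (Fin 2) K) *ᵥ _
    funext i
    fin_cases i <;> simp [Matrix.mulVec, dotProduct, mul_comm]

theorem lineCoord_swap {K : Type*} [Field K] :
    ∃ M : PGL(2, K), M • lineCoord none = lineCoord (some (0 : K)) ∧
      M • lineCoord (some (0 : K)) = lineCoord none ∧
      ∀ x : K, x ≠ 0 → M • lineCoord (some x) = lineCoord (some x⁻¹) := by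
  refine ⟨.mk (GeneralLinearGroup.mkOfDetNeZero !![0, 1; 1, 0] (by simp [det_fin_two_of])), ?_, ?_, ?_⟩
  · refine (Projectivization.mk_eq_mk_iff' K _ _ _ _).2 ⟨1, ?_⟩
    change _ = (!![0, 1; 1, 0] : Matrix (Fin 2) (Fin 2) K) *ᵥ _
    funext i
    fin_cases i <;> simp [Matrix.mulVec, dotProduct]
  · refine (Projectivization.mk_eq_mk_iff' K _ _ _ _).2 ⟨1, ?_⟩
    change _ = (!![0, 1; 1, 0] : Matrix (Fin 2) (Fin 2) K) *ᵥ _
    funext i
    fin_cases i <;> simp [Matrix.mulVec, dotProduct]
  · intro x hx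
    refine (Projectivization.mk_eq_mk_iff' K _ _ _ _).2 ⟨x, ?_⟩
    change _ = (!![0, 1; 1, 0] : Matrix (Fin 2) (Fin 2) K) *ᵥ _
    funext i
    fin_cases i <;> simp [Matrix.mulVec, dotProduct, hx]

/-- Zassenhaus: sharply 3-transitive with commutative two-point stabilisers is `PGL(2, K)` -/
theorem sharp_three_PGL [Fintype X] [DecidableEq X] (hcard : 3 ≤ Fintype.card X)
    (h3 : MulAction.IsMultiplyPretransitive G X 3)
    (hfix : ∀ g : G, ∀ a b c : X, a ≠ b → a ≠ c → b ≠ c → g • a = a → g • b = b → g • c = c → g = 1)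
    (hcomm : ∀ w o : X, o ≠ w → ∀ g h : G,
      g • w = w → g • o = o → h • w = w → h • o = o → g * h = h * g) :
    ∃ (K : Type) (_ : Field K) (_ : Fintype K), Fintype.card K + 1 = Fintype.card X ∧
      Nonempty (G ≃* PGL(2, K)) := by
  classical
  obtain ⟨w⟩ : Nonempty X := Fintype.card_pos_iff.1 (by omega)
  obtain ⟨K, FK, FtK, p, hpw, hA, hB⟩ := exists_affine_coord hcard h3 hfix w (hcomm w)
  subst hpw
  obtain ⟨s, hs1, hs2, hs3⟩ := exists_inversion h3 hfix p hA hB
  let e : X ≃ ℙ K (Fin 2 → K) := p.symm.trans (Equiv.ofBijective _ lineCoord_bijective)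
  have hep : ∀ o, e (p o) = lineCoord o := fun o => by simp [e]
  let Sub : Subgroup G :=
    { carrier := {g | ∃ M : PGL(2, K), ∀ z, e (g • z) = M • e z}
      one_mem' := ⟨1, fun z => by simp⟩
      mul_mem' := fun {g h} ⟨M, hM⟩ ⟨N, hN⟩ => ⟨M * N, fun z => by rw [mul_smul, hM, hN, mul_smul]⟩
      inv_mem' := fun {g} ⟨M, hM⟩ => ⟨M⁻¹, fun z => by
        rw [eq_inv_smul_iff, ← hM, smul_inv_smul]⟩ }
  have hstab : ∀ g : G, g • p none = p none → g ∈ Sub := by
    intro g hg
    obtain ⟨a, b, ha, hab⟩ := hB g hg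
    obtain ⟨M, hM1, hM2⟩ := lineCoord_affine a b ha
    refine ⟨M, fun z => ?_⟩
    obtain ⟨o, rfl⟩ := p.surjective z
    rcases o with _ | x
    · rw [hg, hep, hM1]
    · rw [hab, hep, hep, hM2]
  have hs : s ∈ Sub := by
    obtain ⟨M, hM1, hM2, hM3⟩ := lineCoord_swap (K := K)
    refine ⟨M, fun z => ?_⟩
    obtain ⟨o, rfl⟩ := p.surjective z
    rcases o with _ | x
    · rw [hs1, hep, hep, hM1]
    · by_cases hx : x = 0
      · subst hx
        rw [hs2, hep, hep, hM2]
      · rw [hs3 x hx, hep, hep, hM3 x hx]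
  have hall : ∀ g : G, ∃ M : PGL(2, K), ∀ z, e (g • z) = M • e z := by
    intro g
    suffices g ∈ Sub from this
    rcases hy : p.symm (g • p none) with _ | y
    · exact hstab g (p.symm_apply_eq.1 hy)
    · obtain ⟨t, htw, ht⟩ := hA 1 y one_ne_zero
      have hg : g • p none = (t * s) • p none := by
        rw [mul_smul, hs1, ht, zero_mul, zero_add]; exact p.symm_apply_eq.1 hy
      have h1 : (t * s)⁻¹ * g ∈ Sub := hstab _ (by rw [mul_smul, hg, inv_smul_smul])
      have h2 := Sub.mul_mem (Sub.mul_mem (hstab t htw) hs) h1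
      rwa [mul_inv_cancel_left] at h2
  choose φ hφ using hall
  have tri : ∀ M N : PGL(2, K), (∀ i, M • H37.stdPt (F := K) i = N • H37.stdPt (F := K) i) → M = N := by
    intro M N h
    have := H37.PGL_eq_one_of_fix_three (N⁻¹ * M) (H37.stdPt 0) (H37.stdPt 1) (H37.stdPt 2)
      (H37.stdPt_injective.ne (by decide)) (H37.stdPt_injective.ne (by decide))
      (H37.stdPt_injective.ne (by decide))
      (by rw [mul_smul, h, inv_smul_smul]) (by rw [mul_smul, h, inv_smul_smul])
      (by rw [mul_smul, h, inv_smul_smul])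
    exact (inv_mul_eq_one.1 this).symm
  let ψ : G →* PGL(2, K) := MonoidHom.mk' φ (fun g h => tri _ _ fun i => by
    obtain ⟨z, hz⟩ := e.surjective (H37.stdPt i)
    rw [← hz, mul_smul, ← hφ, ← hφ, ← hφ, mul_smul])
  refine ⟨K, FK, FtK, ?_, ⟨MulEquiv.ofBijective ψ ⟨?_, ?_⟩⟩⟩
  · rw [← Fintype.card_option]; exact Fintype.card_congr p
  · rw [← MonoidHom.ker_eq_bot_iff, Subgroup.eq_bot_iff_forall]
    intro g (hg : φ g = 1)
    have hz : ∀ z, g • z = z := fun z => e.injective (by rw [hφ, hg, one_smul])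
    exact hfix g (p none) (p (some 0)) (p (some 1)) (p.injective.ne (by simp))
      (p.injective.ne (by simp)) (p.injective.ne (by simp)) (hz _) (hz _) (hz _)
  · intro M
    have hne : ∀ i j : Fin 3, i ≠ j → e.symm (H37.stdPt i) ≠ e.symm (H37.stdPt j) := fun i j hij =>
      e.symm.injective.ne (H37.stdPt_injective.ne hij)
    have hne' : ∀ i j : Fin 3, i ≠ j → e.symm (M • H37.stdPt i) ≠ e.symm (M • H37.stdPt j) :=
      fun i j hij h => H37.stdPt_injective.ne hij (smul_left_cancel M (e.symm.injective h))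
    obtain ⟨g, g0, g1, g2⟩ := exists_three h3 (hne 0 1 (by decide)) (hne 0 2 (by decide))
      (hne 1 2 (by decide)) (hne' 0 1 (by decide)) (hne' 0 2 (by decide)) (hne' 1 2 (by decide))
    refine ⟨g, tri _ _ fun i => ?_⟩
    have := hφ g (e.symm (H37.stdPt i))
    rw [e.apply_symm_apply] at this
    show φ g • H37.stdPt i = M • H37.stdPt i
    rw [← this]
    fin_cases i
    · simp only [Fin.zero_eta, g0, e.apply_symm_apply]
    · simp only [Fin.mk_one, g1, e.apply_symm_apply]
    · simp only [Fin.reduceFinMk, g2, e.apply_symm_apply]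

end H59
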