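import Mathlib
import Cfsg.Prelude.Def_Perm
import Cfsg.Prelude.Def_LieExceptional
import Cfsg.Agent.H66.RegularField
import Cfsg.Agent.H58.SharplyTwo
import Cfsg.Agent.H59.SharpThree
import Cfsg.Agent.H59.AbKernel.Dichotomy
import Cfsg.Agent.H66.ZassClassify
import Cfsg.Agent.H39.Dickson

/-!
Transitive permutation groups of degree `p + 1` and order `(p + 1) p d` with `d < p`.
-/

set_option autoImplicit false

namespace H59
namespace PrimeSucc

open MulAction

variable {α : Type*} [Fintype α] [DecidableEq α] {p d : ℕ} {G : Subgroup (Equiv.Perm α)}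

/-- the order of a point stabiliser -/
theorem card_stab (hα : Fintype.card α = p + 1) [IsPretransitive G α]
    (hG : Nat.card G = (p + 1) * p * d) (a : α) : Nat.card (stabilizer G a) = p * d := by
  have h := (stabilizer G a).index_mul_card
  rw [index_stabilizer_of_transitive, Nat.card_eq_fintype_card (α := α), hα, hG, mul_assoc] at h
  exact Nat.eq_of_mul_eq_mul_left (Nat.succ_pos p) h

/-- a point stabiliser has a normal subgroup of prime order regular on the other points -/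
theorem exists_cycle (hp : p.Prime) (hα : Fintype.card α = p + 1) [IsPretransitive G α]
    (hG : Nat.card G = (p + 1) * p * d) (hd : d < p) (a : α) :
    ∃ σ : G, σ • a = a ∧ orderOf σ = p ∧
      (∀ g : G, g • a = a → g * σ * g⁻¹ ∈ Subgroup.zpowers σ) ∧
      (∀ y z : α, y ≠ a → z ≠ a → ∃! u : Subgroup.zpowers σ, (u : G) • y = z) := by
  classical
  haveI := Fact.mk hp
  have hA := card_stab hα hG a
  obtain ⟨⟨σ, hσa⟩, hσ⟩ := exists_prime_orderOf_dvd_card' (G := stabilizer G a) p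
    (hA ▸ dvd_mul_right p d)
  rw [Subgroup.orderOf_mk] at hσ
  have hσa' : σ • a = a := hσa
  have hs : orderOf (σ : Equiv.Perm α) = p := by rw [Subgroup.orderOf_coe, hσ]
  have hsupp : (σ : Equiv.Perm α).support ⊆ Finset.univ.erase a := fun x hx =>
    Finset.mem_erase.2 ⟨fun e => Equiv.Perm.mem_support.1 hx (e ▸ hσa'), Finset.mem_univ x⟩
  have hle : (σ : Equiv.Perm α).support.card ≤ p := by
    refine (Finset.card_le_card hsupp).trans ?_
    rw [Finset.card_erase_of_mem (Finset.mem_univ a), Finset.card_univ, hα]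
    omega
  have hcyc : (σ : Equiv.Perm α).IsCycle := Equiv.Perm.isCycle_of_prime_order (hs ▸ hp) (by
    rw [hs]; have := hp.pos; omega)
  have hcard : (σ : Equiv.Perm α).support.card = p := by rw [← hcyc.orderOf, hs]
  have hsupp' : (σ : Equiv.Perm α).support = Finset.univ.erase a := Finset.eq_of_subset_of_card_le hsupp (by
    rw [hcard, Finset.card_erase_of_mem (Finset.mem_univ a), Finset.card_univ, hα]
    omega)
  have hPa : ∀ u : Subgroup.zpowers σ, (u : G) • a = a := fun u =>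
    (Subgroup.zpowers_le.2 (show σ ∈ stabilizer G a from hσa') u.2 : _)
  have hPcard : Nat.card (Subgroup.zpowers σ) = p := by rw [Nat.card_zpowers, hσ]
  have hreg : ∀ y z : α, y ≠ a → z ≠ a → ∃! u : Subgroup.zpowers σ, (u : G) • y = z := by
    intro y z hy hz
    have hmv : ∀ x, x ≠ a → (σ : Equiv.Perm α) x ≠ x := fun x hx =>
      Equiv.Perm.mem_support.1 (by rw [hsupp']; exact Finset.mem_erase.2 ⟨hx, Finset.mem_univ x⟩)
    let f : Subgroup.zpowers σ → {x : α // x ≠ a} := fun u =>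
      ⟨(u : G) • y, fun e => hy (MulAction.injective (u : G) (e.trans (hPa u).symm))⟩
    have hsur : Function.Surjective f := by
      rintro ⟨x, hx⟩
      obtain ⟨i, hi⟩ := hcyc.exists_zpow_eq (hmv y hy) (hmv x hx)
      refine ⟨⟨σ ^ i, Subgroup.zpow_mem_zpowers σ i⟩, Subtype.ext ?_⟩
      show ((σ ^ i : G) : Equiv.Perm α) y = x
      rw [SubgroupClass.coe_zpow, hi]
    have hbij := (Nat.bijective_iff_surjective_and_card f).2 ⟨hsur, by
      rw [hPcard, Nat.card_eq_fintype_card, Fintype.card_subtype_compl, Fintype.card_subtype_eq, hα]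
      simp⟩
    obtain ⟨u, hu⟩ := hbij.2 ⟨z, hz⟩
    exact ⟨u, congrArg Subtype.val hu, fun w hw => hbij.1 (Subtype.ext (hw.trans (congrArg Subtype.val hu).symm))⟩
  refine ⟨σ, hσa', hσ, fun g hg => ?_, hreg⟩
  by_contra hx
  have hxa : g * σ * g⁻¹ ∈ stabilizer G a :=
    mul_mem (mul_mem (show g ∈ stabilizer G a from hg) hσa) (inv_mem (show g ∈ stabilizer G a from hg))
  have hxo : orderOf (g * σ * g⁻¹) = p := by
    rw [← MulAut.conj_apply, ← hσ]
    exact orderOf_injective (MulAut.conj g).toMonoidHom (MulAut.conj g).injective σ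
  set P' := Subgroup.zpowers (g * σ * g⁻¹) with hP'
  have hdis : Disjoint (Subgroup.zpowers σ) P' := by
    rw [disjoint_iff]
    by_contra hne
    have hdvd := Subgroup.card_dvd_of_le (inf_le_right : Subgroup.zpowers σ ⊓ P' ≤ P')
    rw [hP', Nat.card_zpowers, hxo] at hdvd
    rcases hp.eq_one_or_self_of_dvd _ hdvd with h | h
    · exact hne (Subgroup.card_eq_one.1 h)
    · have heq : Subgroup.zpowers σ ⊓ P' = P' :=
        Subgroup.eq_of_le_of_card_ge inf_le_right (by rw [hP', h, Nat.card_zpowers, hxo])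
      exact hx ((inf_eq_right.1 heq) (Subgroup.mem_zpowers _))
  have hcardle := Nat.card_le_card_of_injective
    (fun q : Subgroup.zpowers σ × P' => (⟨(q.1 : G) * q.2, mul_mem (hPa q.1)
      (Subgroup.zpowers_le.2 hxa q.2.2)⟩ : stabilizer G a))
    (fun q q' h => Subgroup.mul_injective_of_disjoint hdis (congrArg Subtype.val h))
  rw [Nat.card_prod, hPcard, hP', Nat.card_zpowers, hxo, hA] at hcardle
  exact absurd (Nat.le_of_mul_le_mul_left hcardle hp.pos) (not_le.2 hd)

variable (hp : p.Prime) (hα : Fintype.card α = p + 1) [IsPretransitive G α]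
  (hG : Nat.card G = (p + 1) * p * d) (hd : d < p)

include hp hα hG hd

theorem two_trans : IsMultiplyPretransitive G α 2 := by
  refine is_two_pretransitive_iff.2 fun {x y x' y'} hxy hxy' => ?_
  obtain ⟨g, hg⟩ := exists_smul_eq G x x'
  obtain ⟨σ, hσa, -, -, hreg⟩ := exists_cycle hp hα hG hd x'
  obtain ⟨u, hu, -⟩ := hreg (g • y) y' (fun e => hxy (MulAction.injective g (e.trans hg.symm)).symm) hxy'.symm
  refine ⟨(u : G) * g, ?_, by rw [mul_smul, hu]⟩
  rw [mul_smul, hg]
  exact (Subgroup.zpowers_le.2 (show σ ∈ stabilizer G x' from hσa) u.2 : _)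

/-- an element fixing `a`, `b` and centralising the regular subgroup is trivial -/
theorem eq_one_of_comm {a b : α} (hab : a ≠ b) {σ : G}
    (hreg : ∀ y z : α, y ≠ a → z ≠ a → ∃! u : Subgroup.zpowers σ, (u : G) • y = z)
    {g : G} (ha : g • a = a) (hb : g • b = b) (hc : g * σ = σ * g) : g = 1 := by
  refine Subtype.ext (Equiv.ext fun y => ?_)
  show g • y = y
  by_cases hy : y = a
  · rw [hy, ha]
  obtain ⟨⟨u, hu⟩, huy, -⟩ := hreg b y hab.symm hy
  obtain ⟨i, rfl⟩ := Subgroup.mem_zpowers_iff.1 hu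
  have hcu : Commute g (σ ^ i) := (show Commute g σ from hc).zpow_right i
  simp only at huy
  rw [← huy, ← mul_smul, hcu.eq, mul_smul, hb]

theorem fix_three (g : G) (x y z : α) (hxy : x ≠ y) (hyz : y ≠ z) (hxz : x ≠ z)
    (hx : g • x = x) (hy : g • y = y) (hz : g • z = z) : g = 1 := by
  obtain ⟨σ, hσa, hσ, hnorm, hreg⟩ := exists_cycle hp hα hG hd x
  obtain ⟨r, hr⟩ := Subgroup.mem_zpowers_iff.1 (hnorm g hx)
  obtain ⟨⟨u, hu⟩, huz, -⟩ := hreg y z hxy.symm hxz.symm
  obtain ⟨i, rfl⟩ := Subgroup.mem_zpowers_iff.1 hu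
  have huz' : σ ^ i • y = z := huz
  have h1 : (g * σ ^ i * g⁻¹) • y = z := by
    rw [mul_smul, mul_smul, inv_smul_eq_iff.2 hy.symm, huz', hz]
  have h2 : g * σ ^ i * g⁻¹ = σ ^ i := by
    have hm : g * σ ^ i * g⁻¹ ∈ Subgroup.zpowers σ := by
      rw [← conj_zpow, ← hr, ← zpow_mul]
      exact Subgroup.zpow_mem_zpowers σ _
    exact congrArg Subtype.val ((hreg y z hxy.symm hxz.symm).unique (y₁ := ⟨_, hm⟩)
      (y₂ := ⟨σ ^ i, Subgroup.zpow_mem_zpowers σ i⟩) h1 huz')
  have hi : σ ^ i ≠ 1 := fun e => hyz (by rw [← huz', e, one_smul])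
  haveI := Fact.mk hp
  have hgen : σ ∈ Subgroup.zpowers (σ ^ i) := by
    have hle : Subgroup.zpowers (σ ^ i) ≤ Subgroup.zpowers σ :=
      Subgroup.zpowers_le.2 (Subgroup.zpow_mem_zpowers σ i)
    have heq := Subgroup.eq_of_le_of_card_ge hle (by
      rw [Nat.card_zpowers, Nat.card_zpowers]
      rcases hp.eq_one_or_self_of_dvd (orderOf (σ ^ i)) (hσ ▸ orderOf_dvd_of_mem_zpowers
        (Subgroup.zpow_mem_zpowers σ i)) with h | h
      · exact absurd (orderOf_eq_one_iff.1 h) hi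
      · rw [h, hσ])
    exact heq ▸ Subgroup.mem_zpowers σ
  obtain ⟨j, hj⟩ := Subgroup.mem_zpowers_iff.1 hgen
  have hc : Commute g (σ ^ i) := mul_inv_eq_iff_eq_mul.1 h2
  exact eq_one_of_comm hp hα hG hd hxy hreg hx hy (hj ▸ (hc.zpow_right j).eq)

theorem comm_pair (w o : α) (how : o ≠ w) (g h : G) (gw : g • w = w) (go : g • o = o)
    (hw : h • w = w) (ho : h • o = o) : g * h = h * g := by
  obtain ⟨σ, hσa, -, hnorm, hreg⟩ := exists_cycle hp hα hG hd w
  obtain ⟨r, hr⟩ := Subgroup.mem_zpowers_iff.1 (hnorm g gw)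
  obtain ⟨s, hs⟩ := Subgroup.mem_zpowers_iff.1 (hnorm h hw)
  have e1 : g * h * σ * (g * h)⁻¹ = σ ^ (r * s) := by
    rw [zpow_mul, hr, conj_zpow, hs]; group
  have e2 : h * g * σ * (h * g)⁻¹ = σ ^ (r * s) := by
    rw [mul_comm r s, zpow_mul, hs, conj_zpow, hr]; group
  have hc : ((h * g)⁻¹ * (g * h)) * σ = σ * ((h * g)⁻¹ * (g * h)) := by
    calc ((h * g)⁻¹ * (g * h)) * σ = (h * g)⁻¹ * (g * h * σ * (g * h)⁻¹) * (g * h) := by group
      _ = (h * g)⁻¹ * (h * g * σ * (h * g)⁻¹) * (g * h) := by rw [e1, e2]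
      _ = _ := by group
  have := eq_one_of_comm hp hα hG hd how.symm hreg
    (show ((h * g)⁻¹ * (g * h)) • w = w by rw [mul_smul, mul_smul, hw, gw, inv_smul_eq_iff, mul_smul, gw, hw])
    (show ((h * g)⁻¹ * (g * h)) • o = o by rw [mul_smul, mul_smul, ho, go, inv_smul_eq_iff, mul_smul, go, ho])
    hc
  exact (inv_mul_eq_one.1 this).symm

theorem card_pair {a b : α} (hab : a ≠ b) : Nat.card ↥(stabilizer G a ⊓ stabilizer G b) = d := by
  obtain ⟨σ, hσa, hσ, -, hreg⟩ := exists_cycle hp hα hG hd a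
  have hle : Subgroup.zpowers σ ≤ stabilizer G a := Subgroup.zpowers_le.2 hσa
  let f : Subgroup.zpowers σ × ↥(stabilizer G a ⊓ stabilizer G b) → stabilizer G a := fun q =>
    ⟨(q.1 : G) * q.2, mul_mem (hle q.1.2) q.2.2.1⟩
  have hf : Function.Bijective f := by
    constructor
    · intro q q' h
      have h' : (q.1 : G) * q.2 = q'.1 * q'.2 := congrArg Subtype.val h
      have hb1 : (q.2 : G) • b = b := q.2.2.2
      have hb2 : (q'.2 : G) • b = b := q'.2.2.2
      have e1 : (q.1 : G) • b = (q'.1 : G) • b := by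
        have := congrArg (fun g : G => g • b) h'
        simpa only [mul_smul, hb1, hb2] using this
      have hne : (q'.1 : G) • b ≠ a := fun e =>
        hab (MulAction.injective (q'.1 : G) (e.trans (hle q'.1.2).symm)).symm
      have e2 := (hreg b _ hab.symm hne).unique e1 rfl
      rw [e2] at h'
      exact Prod.ext e2 (Subtype.ext (mul_left_cancel h'))
    · rintro ⟨x, hx⟩
      obtain ⟨u, hu, -⟩ := hreg b (x • b) hab.symm fun e => hab (MulAction.injective x (e.trans hx.symm)).symm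
      exact ⟨⟨u, ⟨(u : G)⁻¹ * x, (stabilizer G a).mul_mem ((stabilizer G a).inv_mem (hle u.2)) hx,
        show ((u : G)⁻¹ * x) • b = b by rw [mul_smul, ← hu, inv_smul_smul]⟩⟩,
        Subtype.ext (mul_inv_cancel_left (u : G) x)⟩
  have h := Nat.card_congr (Equiv.ofBijective f hf)
  rw [Nat.card_prod, Nat.card_zpowers, hσ, card_stab hα hG a] at h
  exact Nat.eq_of_mul_eq_mul_left hp.pos h

/-- with a regular normal subgroup the group is semi-affine -/
theorem semiaffine_of_regular (hp2 : p ≠ 2) (N : Subgroup G) [N.Normal]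
    (hN : ∀ x y : α, ∃! g : G, g ∈ N ∧ g • x = y) :
    ∃ q : ℕ, q.Prime ∧ p + 1 = 2 ^ q ∧ (d = 1 ∨ d = q) ∧ ∃ e : α ≃ GaloisField 2 q,
      ∀ g : G, (e.symm.trans (((g : Equiv.Perm α)).trans e)) ∈ Cfsg.semiaffineGroup (GaloisField 2 q) := by
  classical
  haveI := Fact.mk hp
  obtain ⟨a⟩ : Nonempty α := Fintype.card_pos_iff.1 (by omega)
  obtain ⟨σ, hσa, hσ, hnorm, hreg⟩ := exists_cycle hp hα hG hd a
  have hPle : Subgroup.zpowers σ ≤ stabilizer G a := Subgroup.zpowers_le.2 hσa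
  -- `N` and the points
  let ν : N ≃ α := Equiv.ofBijective (fun n => (n : G) • a)
    ⟨fun n m h => Subtype.ext ((hN a _).unique ⟨n.2, rfl⟩ ⟨m.2, h.symm⟩),
     fun x => ⟨⟨_, (hN a x).choose_spec.1.1⟩, (hN a x).choose_spec.1.2⟩⟩
  have hν : ∀ n : N, ν n = (n : G) • a := fun _ => rfl
  have hν1 : ν 1 = a := one_smul G a
  have hνconj : ∀ g : G, g • a = a → ∀ n : N,
      ν ⟨g * n * g⁻¹, Subgroup.Normal.conj_mem inferInstance _ n.2 g⟩ = g • ν n := fun g hg n => by
    show (g * n * g⁻¹) • a = g • ((n : G) • a)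
    rw [mul_smul, mul_smul, inv_smul_eq_iff.2 hg.symm]
  have hNcard : Nat.card N = p + 1 := by rw [Nat.card_congr ν, Nat.card_eq_fintype_card, hα]
  have hne : ∀ n : N, n ≠ 1 → ν n ≠ a := fun n hn e => hn (ν.injective (e.trans hν1.symm))
  have hmove : ∀ n m : N, n ≠ 1 → m ≠ 1 → ∃ u ∈ Subgroup.zpowers σ, u * (n : G) * u⁻¹ = m := by
    intro n m hn hm
    obtain ⟨⟨u, hu⟩, hux, -⟩ := hreg (ν n) (ν m) (hne n hn) (hne m hm)
    exact ⟨u, hu, congrArg Subtype.val (ν.injective ((hνconj u (hPle hu) n).trans hux))⟩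
  -- `N` is an elementary abelian `2`-group
  haveI : Nontrivial N := Finite.one_lt_card_iff_nontrivial.1 (by rw [hNcard]; have := hp.pos; omega)
  obtain ⟨r, hr, hrd⟩ := Nat.exists_prime_and_dvd (n := Nat.card N) (by rw [hNcard]; have := hp.pos; omega)
  haveI := Fact.mk hr
  obtain ⟨n₀, hn₀⟩ := exists_prime_orderOf_dvd_card' r hrd
  have hn₀1 : n₀ ≠ 1 := fun e => by rw [e, orderOf_one] at hn₀; exact hr.one_lt.ne hn₀
  have hexp : ∀ n : N, n ^ r = 1 := by
    intro n
    by_cases hn : n = 1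
    · rw [hn, one_pow]
    obtain ⟨u, -, hu⟩ := hmove n₀ n hn₀1 hn
    have h0 : (n₀ : G) ^ r = 1 := by rw [← SubgroupClass.coe_pow, ← hn₀, pow_orderOf_eq_one, OneMemClass.coe_one]
    refine Subtype.ext ?_
    rw [SubgroupClass.coe_pow, ← hu, conj_pow, h0]
    group
    rfl
  have hNp : IsPGroup r N := fun n => ⟨1, by rw [pow_one]; exact hexp n⟩
  obtain ⟨k, hk⟩ := IsPGroup.iff_card.1 hNp
  have hpodd : Odd p := hp.odd_of_ne_two hp2
  have hr2 : r = 2 := by
    have h2 : 2 ∣ r ^ k := by rw [← hk, hNcard]; exact (hpodd.add_odd odd_one).two_dvd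
    exact ((Nat.prime_dvd_prime_iff_eq Nat.prime_two hr).1 (Nat.prime_two.dvd_of_dvd_pow h2)).symm
  subst hr2
  have hk' : p + 1 = 2 ^ k := hNcard.symm.trans hk
  have hk1 : k ≠ 1 := fun h => by rw [h] at hk'; have := hp.two_le; omega
  have hkp : k.Prime := (Nat.prime_of_pow_sub_one_prime hk1 (by rw [← hk', Nat.add_sub_cancel]; exact hp)).2
  letI : CommGroup N := { (inferInstance : Group N) with
    mul_comm := fun x y => by
      have hi : ∀ z : N, z⁻¹ = z := fun z => inv_eq_of_mul_eq_one_right (by rw [← pow_two]; exact hexp z)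
      calc x * y = (x * y)⁻¹ := (hi _).symm
        _ = y * x := by rw [mul_inv_rev, hi, hi] }
  letI : CommGroup (Subgroup.zpowers σ) := { (inferInstance : Group (Subgroup.zpowers σ)) with
    mul_comm := fun x y => by
      obtain ⟨i, hi⟩ := Subgroup.mem_zpowers_iff.1 x.2
      obtain ⟨j, hj⟩ := Subgroup.mem_zpowers_iff.1 y.2
      exact Subtype.ext (by
        show (x : G) * y = y * x
        rw [← hi, ← hj, ← zpow_add, ← zpow_add, add_comm]) }
  letI : MulDistribMulAction (Subgroup.zpowers σ) N :=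
    { smul := fun u n => ⟨(u : G) * n * (u : G)⁻¹, Subgroup.Normal.conj_mem inferInstance _ n.2 _⟩
      one_smul := fun n => Subtype.ext (show (1 : G) * n * 1⁻¹ = n by group)
      mul_smul := fun g h n => Subtype.ext
        (show (g : G) * h * n * ((g : G) * h)⁻¹ = g * (h * n * (h : G)⁻¹) * (g : G)⁻¹ by group)
      smul_mul := fun h n m => Subtype.ext
        (show (h : G) * (n * m) * (h : G)⁻¹ = (h * n * (h : G)⁻¹) * (h * m * (h : G)⁻¹) by group)
      smul_one := fun h => Subtype.ext (show (h : G) * 1 * (h : G)⁻¹ = 1 by group) }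
  obtain ⟨F, iF, iFt, e₀, χ₀, he₀, hadd₀, hsmul₀, hχ₀i, hχ₀s⟩ := H66.exists_field_of_regular
    (E := N) (K := Subgroup.zpowers σ)
    (fun n m hn hm => by
      obtain ⟨u, hu, hum⟩ := hmove n m hn hm
      exact ⟨⟨u, hu⟩, Subtype.ext hum⟩)
    (fun u n hn h => by
      have h1 : (u : G) • ν n = ν n := (hνconj u (hPle u.2) n).symm.trans (congrArg ν h)
      exact ((hreg (ν n) (ν n) (hne n hn) (hne n hn)).unique h1 (y₂ := 1) (one_smul G _)))
  haveI : Fintype (GaloisField 2 k) := Fintype.ofFinite _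
  have hFcard : Fintype.card F = Fintype.card (GaloisField 2 k) := by
    rw [← Nat.card_eq_fintype_card, ← Nat.card_eq_fintype_card, GaloisField.card 2 k hkp.ne_zero, ← hk',
      ← hNcard, Nat.card_congr (Equiv.ofBijective e₀ he₀)]
  let ι : F ≃+* GaloisField 2 k := FiniteField.ringEquivOfCardEq hFcard
  -- coordinates
  let E : N ≃ GaloisField 2 k := (Equiv.ofBijective e₀ he₀).trans ι.toEquiv
  have hEadd : ∀ n m : N, E (n * m) = E n + E m := fun n m => by
    show ι (e₀ (n * m)) = ι (e₀ n) + ι (e₀ m)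
    rw [hadd₀, map_add]
  have hE1 : E 1 = 0 := by
    have := hEadd 1 1
    rw [one_mul] at this
    exact left_eq_add.1 this
  let χ : Subgroup.zpowers σ →* GaloisField 2 k := (ι : F →* GaloisField 2 k).comp χ₀
  have hEsmul : ∀ (u : Subgroup.zpowers σ) (n : N), E (u • n) = χ u * E n := fun u n => by
    show ι (e₀ (u • n)) = ι (χ₀ u) * ι (e₀ n)
    rw [hsmul₀, map_mul]
  have hχs : ∀ c : GaloisField 2 k, c ≠ 0 → ∃ u, χ u = c := fun c hc => by
    obtain ⟨u, hu⟩ := hχ₀s (ι.symm c) (by simpa using hc)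
    exact ⟨u, show ι (χ₀ u) = c by rw [hu, RingEquiv.apply_symm_apply]⟩
  let e : α ≃ GaloisField 2 k := ν.symm.trans E
  have he : ∀ n : N, e ((n : G) • a) = E n := fun n => by
    show E (ν.symm (ν n)) = E n
    rw [Equiv.symm_apply_apply]
  have hea : e a = 0 := by rw [← hE1, ← he 1, OneMemClass.coe_one, one_smul]
  -- the stabiliser of `a` acts by semilinear maps
  have hstab : ∀ g : G, g • a = a → ∃ c : (GaloisField 2 k)ˣ, ∃ φ : GaloisField 2 k ≃+* GaloisField 2 k,
      ∀ x, e (g • x) = (c : GaloisField 2 k) * φ (e x) := by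
    intro g hg
    let f : GaloisField 2 k → GaloisField 2 k := fun x => e (g • e.symm x)
    have hfe : ∀ n : N, f (E n) = E ⟨g * n * g⁻¹, Subgroup.Normal.conj_mem inferInstance _ n.2 g⟩ := fun n => by
      show e (g • e.symm (E n)) = _
      rw [← he n, Equiv.symm_apply_apply, ← hν n, ← hνconj g hg n, hν, he]
    have hfb : Function.Bijective f :=
      e.bijective.comp ((MulAction.bijective g).comp e.symm.bijective)
    have hf0 : f 0 = 0 := by
      show e (g • e.symm 0) = 0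
      rw [← hea, Equiv.symm_apply_apply, hg]
    have hfadd : ∀ x y, f (x + y) = f x + f y := fun x y => by
      obtain ⟨n, rfl⟩ := E.surjective x
      obtain ⟨m, rfl⟩ := E.surjective y
      rw [← hEadd, hfe, hfe, hfe, ← hEadd]
      congr 1
      exact Subtype.ext (show g * (n * m : N) * g⁻¹ = g * n * g⁻¹ * (g * m * g⁻¹) by
        rw [Subgroup.coe_mul]; group)
    have hf1 : f 1 ≠ 0 := fun h => one_ne_zero (hfb.1 (h.trans hf0.symm))
    have hgu : ∀ u : Subgroup.zpowers σ, g * (u : G) * g⁻¹ ∈ Subgroup.zpowers σ := fun u => by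
      obtain ⟨i, hi⟩ := Subgroup.mem_zpowers_iff.1 u.2
      rw [← hi, ← conj_zpow]
      exact Subgroup.zpow_mem _ (hnorm g hg) i
    have hfχ : ∀ u x, f (χ u * x) = χ ⟨g * u * g⁻¹, hgu u⟩ * f x := fun u x => by
      obtain ⟨n, rfl⟩ := E.surjective x
      rw [← hEsmul, hfe, hfe, ← hEsmul]
      congr 1
      exact Subtype.ext (show g * (u * n * (u : G)⁻¹) * g⁻¹ = g * u * g⁻¹ * (g * n * g⁻¹) * (g * u * g⁻¹)⁻¹ by
        group)
    refine ⟨Units.mk0 (f 1) hf1,
      { toFun := fun x => (f 1)⁻¹ * f x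
        invFun := Function.invFun fun x => (f 1)⁻¹ * f x
        left_inv := Function.leftInverse_invFun (((Equiv.mulLeft₀ _ (inv_ne_zero hf1)).injective).comp hfb.1)
        right_inv := Function.rightInverse_invFun (((Equiv.mulLeft₀ _ (inv_ne_zero hf1)).surjective).comp hfb.2)
        map_mul' := fun x y => ?_
        map_add' := fun x y => by rw [hfadd, mul_add] }, fun x => ?_⟩
    · by_cases hx : x = 0
      · simp [hx, hf0]
      obtain ⟨u, rfl⟩ := hχs x hx
      have h1 := hfχ u 1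
      rw [mul_one] at h1
      rw [hfχ, h1]
      field_simp
    · show e (g • x) = f 1 * ((f 1)⁻¹ * f (e x))
      rw [mul_inv_cancel_left₀ hf1]
      show _ = e (g • e.symm (e x))
      rw [Equiv.symm_apply_apply]
  -- the two-point stabiliser embeds into the Galois group
  have hdvd : d ∣ k := by
    set b := e.symm 1 with hb
    have hab : a ≠ b := fun h => one_ne_zero (by rw [← hea, h, hb, Equiv.apply_symm_apply])
    rw [← card_pair hp hα hG hd hab]
    have hH : ∀ h : ↥(stabilizer G a ⊓ stabilizer G b), ∃ φ : GaloisField 2 k ≃+* GaloisField 2 k,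
        ∀ x, e ((h : G) • x) = φ (e x) := by
      intro h
      obtain ⟨c, φ, hφ⟩ := hstab h h.2.1
      have h1 := hφ b
      rw [show (h : G) • b = b from h.2.2, hb, Equiv.apply_symm_apply, map_one, mul_one] at h1
      exact ⟨φ, fun x => by rw [hφ, ← h1, one_mul]⟩
    choose φ hφ using hH
    let Φ : ↥(stabilizer G a ⊓ stabilizer G b) →* (GaloisField 2 k ≃ₐ[ZMod 2] GaloisField 2 k) :=
      MonoidHom.mk' (fun h => AlgEquiv.ofRingEquiv (f := φ h) (fun z => RingHom.congr_fun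
          (RingHom.ext_zmod ((φ h : GaloisField 2 k →+* GaloisField 2 k).comp (algebraMap (ZMod 2) _))
            (algebraMap (ZMod 2) _)) z))
        (fun g h => AlgEquiv.ext fun y => by
          obtain ⟨x, rfl⟩ := e.surjective y
          show φ (g * h) (e x) = φ g (φ h (e x))
          rw [← hφ, ← hφ, ← hφ, Subgroup.coe_mul, mul_smul])
    have hinj : Function.Injective Φ := fun g h hgh => Subtype.ext (Subtype.ext (Equiv.ext fun x => by
      apply e.injective
      show e ((g : G) • x) = e ((h : G) • x)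
      rw [hφ, hφ]
      exact AlgEquiv.congr_fun hgh (e x)))
    have h2 : Nat.card (GaloisField 2 k ≃ₐ[ZMod 2] GaloisField 2 k) = k := by
      rw [IsGalois.card_aut_eq_finrank, GaloisField.finrank 2 hkp.ne_zero]
    exact h2 ▸ Subgroup.card_dvd_of_injective Φ hinj
  refine ⟨k, hkp, hk', hkp.eq_one_or_self_of_dvd d hdvd, e, fun g => ?_⟩
  obtain ⟨n, ⟨hn, hna⟩, -⟩ := hN a (g • a)
  obtain ⟨c, φ, hφ⟩ := hstab (n⁻¹ * g) (by rw [mul_smul, ← hna, inv_smul_smul])
  refine ⟨c, E ⟨n, hn⟩, φ, fun x => ?_⟩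
  obtain ⟨y, rfl⟩ := e.surjective x
  show e (g • e.symm (e y)) = _
  rw [Equiv.symm_apply_apply, ← hφ]
  obtain ⟨m, hm⟩ := ν.surjective ((n⁻¹ * g) • y)
  have hgy : g • y = ((⟨n, hn⟩ * m : N) : G) • a := by
    rw [Subgroup.coe_mul, mul_smul, ← hν m, hm, ← mul_smul, mul_inv_cancel_left]
  rw [hgy, he, hEadd, ← hm, hν, he, add_comm]

/-- the three cases -/
theorem cases_prime_succ :
    (d = p - 1 ∧ Nonempty (G ≃* Matrix.ProjGenLinGroup (Fin 2) (ZMod p))) ∨
    (2 * d = p - 1 ∧ Nonempty (G ≃* Matrix.ProjectiveSpecialLinearGroup (Fin 2) (ZMod p))) ∨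
    (∃ q : ℕ, q.Prime ∧ p + 1 = 2 ^ q ∧ (d = 1 ∨ d = q) ∧ ∃ e : α ≃ GaloisField 2 q,
      ∀ g : G, (e.symm.trans (((g : Equiv.Perm α)).trans e)) ∈ Cfsg.semiaffineGroup (GaloisField 2 q)) := by
  classical
  haveI := Fact.mk hp
  have h2 := two_trans hp hα hG hd
  have h3 := fix_three hp hα hG hd
  have hd0 : d ≠ 0 := fun h => Nat.card_pos.ne' (hG.trans (by rw [h, mul_zero]))
  have pgl : IsMultiplyPretransitive G α 3 → Nonempty (G ≃* Matrix.ProjGenLinGroup (Fin 2) (ZMod p)) := by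
    intro h33
    obtain ⟨K, iK, iKt, hK, ⟨e⟩⟩ := H59.sharp_three_PGL (G := G) (X := α) (by have := hp.two_le; omega) h33
      (fun g x y z hxy hxz hyz => h3 g x y z hxy hyz hxz) (comm_pair hp hα hG hd)
    exact ⟨e.trans (H39.pglCongr (ZMod.ringEquivOfPrime K hp (by omega)).symm)⟩
  by_cases hp2 : p = 2
  · left
    have hd1 : d = 1 := by omega
    have htop : G = ⊤ := Subgroup.eq_top_of_card_eq G (by
      rw [hG, Nat.card_perm, Nat.card_eq_fintype_card, hα, hp2, hd1]; rfl)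
    refine ⟨by omega, pgl ⟨fun x y => ?_⟩⟩
    obtain ⟨g, hg⟩ := (Equiv.Perm.isMultiplyPretransitive α 3).exists_smul_eq x y
    exact ⟨⟨g, htop ▸ Subgroup.mem_top g⟩, hg⟩
  by_cases hR : ∃ N : Subgroup G, N.Normal ∧ ∀ x y : α, ∃! g : G, g ∈ N ∧ g • x = y
  · obtain ⟨N, hN, hNr⟩ := hR
    exact Or.inr (Or.inr (semiaffine_of_regular hp hα hG hd hp2 N hNr))
  obtain ⟨a, b, hab⟩ := Fintype.exists_pair_of_one_lt_card (α := α) (by have := hp.two_le; omega)
  have hd1 : d ≠ 1 := by
    intro hd1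
    refine hR ?_
    obtain ⟨N, hN, -, -, -, -, hNr, -⟩ := H58.sharplyTwo_kernel (G := G) (Ω := α) h2 (fun g x y hxy hx hy => by
      have h := card_pair hp hα hG hd hxy
      rw [hd1, Subgroup.card_eq_one] at h
      exact Subgroup.mem_bot.1 (h ▸ Subgroup.mem_inf.2 ⟨hx, hy⟩)) (by have := hp.two_le; omega)
    exact ⟨N, hN, hNr⟩
  have hZ : Cfsg.IsZassenhausGroup G α := by
    refine ⟨inferInstance, h2, h3, ?_, fun N hN hNt => ?_⟩
    · obtain ⟨g, hg, hg1⟩ := (stabilizer G a ⊓ stabilizer G b).bot_or_exists_ne_one.resolve_left fun h => by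
        have := card_pair hp hα hG hd hab
        rw [h, Subgroup.card_bot] at this
        exact hd1 this.symm
      exact ⟨g, hg1, a, b, hab, hg.1, hg.2⟩
    · by_contra hall
      push Not at hall
      refine hR ⟨N, hN, fun x y => ?_⟩
      obtain ⟨⟨n, hn⟩, hnx⟩ := hNt.exists_smul_eq x y
      have hnx' : n • x = y := hnx
      refine ⟨n, ⟨hn, hnx'⟩, fun m hm => ?_⟩
      have := (Subgroup.eq_bot_iff_forall _).1 (hall x) ⟨n⁻¹ * m, mul_mem (inv_mem hn) hm.1⟩
        (show (n⁻¹ * m) • x = x by rw [mul_smul, hm.2, ← hnx', inv_smul_smul])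
      exact (inv_mul_eq_one.1 (congrArg Subtype.val this)).symm
  obtain ⟨σ, hσa, -, hnorm, hreg⟩ := exists_cycle hp hα hG hd a
  have hconj : ∀ g : G, g • a = a → ∀ u ∈ Subgroup.zpowers σ, g * u * g⁻¹ ∈ Subgroup.zpowers σ := by
    intro g hg u hu
    obtain ⟨i, rfl⟩ := Subgroup.mem_zpowers_iff.1 hu
    rw [← conj_zpow]
    exact Subgroup.zpow_mem _ (hnorm g hg) i
  have hcomm : ∀ u ∈ Subgroup.zpowers σ, ∀ v ∈ Subgroup.zpowers σ, u * v = v * u := by
    intro u hu v hv
    obtain ⟨i, rfl⟩ := Subgroup.mem_zpowers_iff.1 hu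
    obtain ⟨j, rfl⟩ := Subgroup.mem_zpowers_iff.1 hv
    rw [← zpow_add, ← zpow_add, add_comm]
  have hc := card_pair hp hα hG hd hab
  rcases H59.AbKernel.abelian_kernel_cases hZ hab (Subgroup.zpowers_le.2 hσa) hconj hcomm hreg with
    h | ⟨h, K, iK, iKt, -, hK, ⟨e⟩⟩
  · left
    refine ⟨by omega, pgl (H66.Feit.three_pretransitive hZ hab h.symm)⟩
  · right; left
    exact ⟨by omega, ⟨e.trans (H39.pslCongr (ZMod.ringEquivOfPrime K hp (by omega)).symm)⟩⟩

end PrimeSucc
end H59
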