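import Cfsg.Agent.H59.SharpThree
import Cfsg.Agent.S3375
import Cfsg.Agent.S0682
import Cfsg.Agent.H2.UniqueSubgroup
import Cfsg.Agent.H65.CyclicSylow
import Cfsg.Agent.H60.Irred

/-!
Two-point stabilisers of sharply 3-transitive groups of even degree.
-/

set_option autoImplicit false

namespace H59

universe u v

variable {G : Type u} [Group G] {X : Type v} [MulAction G X]

/-- the two-point stabiliser -/
abbrev st2 (G : Type u) [Group G] {X : Type v} [MulAction G X] (a b : X) : Subgroup G :=
  MulAction.stabilizer G a ⊓ MulAction.stabilizer G b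

/-- conjugation between two-point stabilisers -/
theorem st2_equiv {a b a' b' : X} (t : G) (ha : t • a = a') (hb : t • b = b') :
    Nonempty (st2 G a b ≃* st2 G a' b') := by
  refine ⟨((st2 G a b).equivMapOfInjective (MulAut.conj t).toMonoidHom (MulAut.conj t).injective).trans
    (MulEquiv.subgroupCongr ?_)⟩
  subst ha hb
  rw [Subgroup.map_inf _ _ (MulAut.conj t).toMonoidHom (MulAut.conj t).injective, st2,
    MulAction.stabilizer_smul_eq_stabilizer_map_conj, MulAction.stabilizer_smul_eq_stabilizer_map_conj]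

variable [Fintype X] [DecidableEq X]

theorem finite_of_sharp (hcard : 3 ≤ Fintype.card X)
    (hfix : ∀ g : G, ∀ a b c : X, a ≠ b → a ≠ c → b ≠ c → g • a = a → g • b = b → g • c = c → g = 1) :
    Finite G := by
  obtain ⟨a, b, c, hab, hac, hbc⟩ := Fintype.two_lt_card_iff.1 (show 2 < Fintype.card X by omega)
  refine Finite.of_injective (fun g : G => (g • a, g • b, g • c)) fun g h e => ?_
  simp only [Prod.mk.injEq] at e
  exact (inv_mul_eq_one.1 (hfix (h⁻¹ * g) a b c hab hac hbc (by rw [mul_smul, e.1, inv_smul_smul])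
    (by rw [mul_smul, e.2.1, inv_smul_smul]) (by rw [mul_smul, e.2.2, inv_smul_smul]))).symm

theorem card_st2 (h3 : MulAction.IsMultiplyPretransitive G X 3)
    (hfix : ∀ g : G, ∀ a b c : X, a ≠ b → a ≠ c → b ≠ c → g • a = a → g • b = b → g • c = c → g = 1)
    (hcard : 3 ≤ Fintype.card X) {a b : X} (hab : a ≠ b) :
    Nat.card (st2 G a b) = Fintype.card X - 2 := by
  classical
  obtain ⟨c, hc⟩ : ∃ c : X, c ∉ ({a, b} : Finset X) := by
    have h := Finset.card_compl ({a, b} : Finset X)
    rw [Finset.card_pair hab] at h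
    obtain ⟨c, hc⟩ := Finset.card_pos.1 (show 0 < ({a, b} : Finset X)ᶜ.card by omega)
    exact ⟨c, Finset.mem_compl.1 hc⟩
  simp only [Finset.mem_insert, Finset.mem_singleton, not_or] at hc
  let e : st2 G a b → {x : X // x ∉ ({a, b} : Finset X)} := fun h => ⟨(h : G) • c, by
    simp only [Finset.mem_insert, Finset.mem_singleton, not_or]
    exact ⟨fun e => hc.1 (MulAction.injective (h : G) (e.trans h.2.1.symm)),
      fun e => hc.2 (MulAction.injective (h : G) (e.trans h.2.2.symm))⟩⟩
  have he : Function.Bijective e := by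
    refine ⟨fun g h e => Subtype.ext ?_, fun x => ?_⟩
    · have e' : (g : G) • c = (h : G) • c := congrArg Subtype.val e
      exact (inv_mul_eq_one.1 (hfix ((h : G)⁻¹ * g) a b c hab (Ne.symm hc.1) (Ne.symm hc.2)
        (by rw [mul_smul, g.2.1, inv_smul_eq_iff, h.2.1]) (by rw [mul_smul, g.2.2, inv_smul_eq_iff, h.2.2])
        (by rw [mul_smul, e', inv_smul_smul]))).symm
    · have hx := x.2
      simp only [Finset.mem_insert, Finset.mem_singleton, not_or] at hx
      obtain ⟨g, h1, h2, h3'⟩ := exists_three h3 hab (Ne.symm hc.1) (Ne.symm hc.2) hab (Ne.symm hx.1)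
        (Ne.symm hx.2)
      exact ⟨⟨g, h1, h2⟩, Subtype.ext h3'⟩
  rw [Nat.card_eq_of_bijective e he, Nat.card_eq_fintype_card, Fintype.card_subtype_compl,
    Fintype.card_coe, Finset.card_pair hab]

/-- the involution swapping `a, b` and fixing a third point has exactly two fixed points on `st2 G a b` -/
theorem exists_sigma (heven : Even (Fintype.card X)) (h6 : 6 ≤ Fintype.card X)
    (h3 : MulAction.IsMultiplyPretransitive G X 3)
    (hfix : ∀ g : G, ∀ a b c : X, a ≠ b → a ≠ c → b ≠ c → g • a = a → g • b = b → g • c = c → g = 1)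
    {a b c : X} (hab : a ≠ b) (hac : a ≠ c) (hbc : b ≠ c) {s : G}
    (hsa : s • a = b) (hsb : s • b = a) (hsc : s • c = c) :
    ∃ γ : MulAut (st2 G a b), orderOf γ = 2 ∧ Nat.card {h : st2 G a b // γ h = h} = 2 ∧
      ∀ h : st2 G a b, (γ h : G) = s * h * s⁻¹ := by
  classical
  have hs2 : s * s = 1 := hfix _ a b c hab hac hbc (by rw [mul_smul, hsa, hsb]) (by rw [mul_smul, hsb, hsa])
    (by rw [mul_smul, hsc, hsc])
  have hsi : s⁻¹ = s := inv_eq_of_mul_eq_one_right hs2
  have hmem : ∀ h ∈ st2 G a b, s * h * s⁻¹ ∈ st2 G a b := by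
    intro h hh
    refine ⟨?_, ?_⟩
    · show (s * h * s⁻¹) • a = a
      rw [hsi, mul_smul, mul_smul, hsa, hh.2, hsb]
    · show (s * h * s⁻¹) • b = b
      rw [hsi, mul_smul, mul_smul, hsb, hh.1, hsa]
  have hinv : ∀ h : G, s * (s * h * s⁻¹) * s⁻¹ = h := fun h => by
    rw [hsi, ← mul_assoc, ← mul_assoc, hs2, one_mul, mul_assoc, hs2, mul_one]
  let γ : MulAut (st2 G a b) :=
    { toFun := fun h => ⟨s * h * s⁻¹, hmem h h.2⟩
      invFun := fun h => ⟨s * h * s⁻¹, hmem h h.2⟩
      left_inv := fun h => Subtype.ext (hinv h)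
      right_inv := fun h => Subtype.ext (hinv h)
      map_mul' := fun g h => Subtype.ext (by simp [mul_assoc]) }
  -- the second fixed point of `s`
  obtain ⟨d, hdc, hd⟩ : ∃ d, d ≠ c ∧ s • d = d := by
    by_contra! hcon
    let σ : Equiv.Perm X := MulAction.toPerm s
    have h2 : σ ^ 2 = 1 := by
      ext x; simp [σ, sq, ← mul_smul, hs2]
    have hev := Equiv.Perm.two_dvd_card_support (σ := σ) h2
    have hF : σ.supportᶜ = {c} := by
      ext x
      simp only [Finset.mem_compl, Equiv.Perm.mem_support, not_not, Finset.mem_singleton, σ,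
        MulAction.toPerm_apply]
      exact ⟨fun h => by_contra fun hne => hcon x hne h, fun h => h ▸ hsc⟩
    have := Finset.card_compl_add_card σ.support
    rw [hF, Finset.card_singleton] at this
    obtain ⟨k, hk⟩ := heven
    obtain ⟨l, hl⟩ := hev
    omega
  have hda : d ≠ a := fun e => hab (by rw [e] at hd; exact hd.symm.trans hsa)
  have hdb : d ≠ b := fun e => hab (by rw [e] at hd; exact hsb.symm.trans hd)
  have hfixγ : ∀ h : st2 G a b, γ h = h ↔ (h : G) • c = c ∨ (h : G) • c = d := by
    intro h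
    constructor
    · intro hh
      have e : s * h * s⁻¹ = h := congrArg Subtype.val hh
      have : s • (h : G) • c = (h : G) • c := by
        conv_rhs => rw [← e, hsi, mul_smul, mul_smul, hsc]
      by_contra! hne
      have : s = 1 := hfix s c d ((h : G) • c) hdc.symm hne.1.symm hne.2.symm hsc hd this
      rw [this, one_smul] at hsa
      exact hab hsa
    · intro hh
      refine Subtype.ext ?_
      show s * (h : G) * s⁻¹ = h
      have hha : (h : G) • a = a := h.2.1
      have hhb : (h : G) • b = b := h.2.2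
      have hm := hmem h h.2
      refine (inv_mul_eq_one.1 (hfix ((h : G)⁻¹ * (s * h * s⁻¹)) a b c hab hac hbc ?_ ?_ ?_)).symm
      · rw [mul_smul, hm.1, inv_smul_eq_iff, hha]
      · rw [mul_smul, hm.2, inv_smul_eq_iff, hhb]
      · rw [mul_smul, inv_smul_eq_iff, hsi, mul_smul, mul_smul, hsc]
        rcases hh with e | e <;> rw [e]
        · exact hsc
        · exact hd
  have hcard2 : Nat.card {h : st2 G a b // γ h = h} = 2 := by
    let e : {h : st2 G a b // γ h = h} → ({c, d} : Finset X) := fun h => ⟨((h : st2 G a b) : G) • c, by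
      simpa using (hfixγ h.1).1 h.2⟩
    have he : Function.Bijective e := by
      refine ⟨fun g h eq => ?_, fun x => ?_⟩
      · have e' : ((g : st2 G a b) : G) • c = ((h : st2 G a b) : G) • c := congrArg Subtype.val eq
        refine Subtype.ext (Subtype.ext ?_)
        exact (inv_mul_eq_one.1 (hfix (((h : st2 G a b) : G)⁻¹ * g) a b c hab hac hbc
          (by rw [mul_smul, g.1.2.1, inv_smul_eq_iff, h.1.2.1])
          (by rw [mul_smul, g.1.2.2, inv_smul_eq_iff, h.1.2.2])
          (by rw [mul_smul, e', inv_smul_smul]))).symm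
      · have hx := x.2
        simp only [Finset.mem_insert, Finset.mem_singleton] at hx
        have hxa : a ≠ x := by rcases hx with e | e <;> rw [e] <;> [exact hac; exact hda.symm]
        have hxb : b ≠ x := by rcases hx with e | e <;> rw [e] <;> [exact hbc; exact hdb.symm]
        obtain ⟨g, g1, g2, g3⟩ := exists_three h3 hab hac hbc hab hxa hxb
        refine ⟨⟨⟨g, g1, g2⟩, (hfixγ _).2 ?_⟩, Subtype.ext g3⟩
        show g • c = c ∨ g • c = d
        rw [g3]; exact hx
    rw [Nat.card_eq_of_bijective e he, Nat.card_eq_fintype_card, Fintype.card_coe,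
      Finset.card_pair hdc.symm]
  refine ⟨γ, orderOf_eq_prime (MulEquiv.ext fun h => Subtype.ext (hinv h)) ?_, hcard2, fun h => rfl⟩
  intro h1
  have hall : Nat.card {h : st2 G a b // γ h = h} = Nat.card (st2 G a b) :=
    Nat.card_congr (Equiv.subtypeUnivEquiv fun h => by rw [h1]; rfl)
  rw [hcard2, card_st2 h3 hfix (by omega) hab] at hall
  omega

/-- an index-two subgroup of a two-point stabiliser yields the inverted abelian one -/
theorem exists_half (heven : Even (Fintype.card X)) (h6 : 6 ≤ Fintype.card X)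
    (h3 : MulAction.IsMultiplyPretransitive G X 3)
    (hfix : ∀ g : G, ∀ a b c : X, a ≠ b → a ≠ c → b ≠ c → g • a = a → g • b = b → g • c = c → g = 1)
    {a b c : X} (hab : a ≠ b) (hac : a ≠ c) (hbc : b ≠ c) {s : G}
    (hsa : s • a = b) (hsb : s • b = a) (hsc : s • c = c)
    (hM : ∃ M : Subgroup (st2 G a b), M.index = 2) :
    ∃ A : Subgroup (st2 G a b), A.index = 2 ∧ IsMulCommutative A ∧
      ∀ x ∈ A, ∃ y ∈ A, (y : G) = s * x * s⁻¹ := by
  haveI := finite_of_sharp (G := G) (by omega : 3 ≤ Fintype.card X) hfix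
  obtain ⟨γ, hγ, hcard, hγc⟩ := exists_sigma heven h6 h3 hfix hab hac hbc hsa hsb hsc
  obtain ⟨A, hA, hAc, hAγ, -⟩ := (Cfsg.Agent.S3375.result γ hγ).2 ⟨hcard, hM⟩
  exact ⟨A, hA, hAc, fun x hx => ⟨γ x, hAγ x hx, hγc x⟩⟩

/-- near-field involutions act as `-1` -/
theorem nearfield_invol_neg {F : Type*} [Cfsg.NearField F] [Finite F] {c : F} (hc : c * c = 1)
    (hc1 : c ≠ 1) (y : F) : y * c = -y := by
  obtain ⟨-, -, -, -, -, hadd, -⟩ := Cfsg.Agent.S0682.result (F := F)
  have hfixed : (y * c + y) * c = y * c + y := by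
    rw [Cfsg.NearField.right_distrib, mul_assoc, hc, mul_one, hadd]
  by_contra hne
  have h0 : y * c + y ≠ 0 := fun e => hne (eq_neg_of_add_eq_zero_left e)
  obtain ⟨u, -, hu⟩ := Cfsg.NearField.exists_inv _ h0
  exact hc1 (by have := congrArg (u * ·) hfixed; simpa [← mul_assoc, hu] using this)

/-- additive maps of a `ZMod p`-module forming a group action, as linear maps -/
theorem exists_end_of_additive {p : ℕ} {F : Type v} [AddCommGroup F] [Module (ZMod p) F] {H : Type u}
    [Group H] (R : H → F → F) (hadd : ∀ g x y, R g (x + y) = R g x + R g y)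
    (hone : ∀ x, R 1 x = x) (hmul : ∀ g h x, R (g * h) x = R g (R h x)) :
    ∃ ρ : H →* Module.End (ZMod p) F, ∀ g x, ρ g x = R g x := by
  let L : H → Module.End (ZMod p) F := fun g => (AddMonoidHom.mk' (R g) (hadd g)).toZModLinearMap p
  exact ⟨{ toFun := L
           map_one' := LinearMap.ext fun x => hone x
           map_mul' := fun g h => LinearMap.ext fun x => hmul g h x }, fun g x => rfl⟩

/-- a group of right multiplications of a near-field, as linear maps -/
theorem exists_end {F : Type v} [NF : Cfsg.NearField F] [Finite F] {p f : ℕ} (hpr : p.Prime)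
    (hF : Nat.card F = p ^ f) {H : Type u} [Group H] (a : H → F)
    (hmul : ∀ g h : H, a (g * h) = a h * a g)
    (hfix : ∀ g : H, g ≠ 1 → ∀ x : F, x * a g = x → x = 0) (hone : a 1 = 1) :
    ∃ (V : Type v) (_ : AddCommGroup V) (_ : Module (ZMod p) V) (_ : Finite V) (_ : Nontrivial V)
      (ρ : H →* Module.End (ZMod p) V), Nat.card V = p ^ f ∧ Function.Injective ρ ∧
      (∀ g, g ≠ 1 → ∀ x : V, ρ g x = x → x = 0) ∧ (∀ g : H, g * g = 1 → g ≠ 1 → ρ g = -1) := by
  classical
  obtain ⟨p', j, hp', hj1, hj, hadd, hexp⟩ := Cfsg.Agent.S0682.result (F := F)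
  have hpp : p' = p := by
    have h : p' ^ j = p ^ f := hj.symm.trans hF
    exact (Nat.prime_dvd_prime_iff_eq hp' hpr).1
      (hp'.dvd_of_dvd_pow (h ▸ dvd_pow_self p' (by omega)))
  subst hpp
  letI : AddCommGroup F := { (NF.toAddGroup : AddGroup F) with add_comm := hadd }
  have hexp' : ∀ x : F, p' • x = 0 := hexp
  letI : Module (ZMod p') F := AddCommGroup.zmodModule hexp'
  obtain ⟨ρ, hρ⟩ := exists_end_of_additive (p := p') (F := F) (fun g x => x * a g)
    (fun g x y => Cfsg.NearField.right_distrib x y (a g))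
    (fun x => by simp only [hone, mul_one]) (fun g h x => by simp only [hmul, mul_assoc])
  have hinj : Function.Injective ρ := fun g h e => by
    by_contra hne
    refine Cfsg.NearField.zero_ne_one (F := F)
      (hfix (h⁻¹ * g) (by rwa [Ne, inv_mul_eq_one, eq_comm]) 1 ?_).symm
    have e' : ρ (h⁻¹ * g) = 1 := by rw [map_mul, e, ← map_mul, inv_mul_cancel, map_one]
    rw [← hρ, e']; rfl
  refine ⟨F, inferInstance, inferInstance, inferInstance, ⟨⟨0, 1, Cfsg.NearField.zero_ne_one⟩⟩, ρ, hF,
    hinj, fun g hg x hx => hfix g hg x ((hρ g x).symm.trans hx), ?_⟩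
  intro g hg hg1
  have hc : a g * a g = 1 := by rw [← hmul, hg, hone]
  have hc1 : a g ≠ 1 := fun e => hg1 (hinj (LinearMap.ext fun x => by
    rw [hρ, e, mul_one, map_one]; rfl))
  exact LinearMap.ext fun x => (hρ g x).trans (nearfield_invol_neg hc hc1 x)

/-- the linear action of a two-point stabiliser on the additive group of the coordinate near-field -/
theorem exists_linear_coord (hcard : 3 ≤ Fintype.card X)
    (h3 : MulAction.IsMultiplyPretransitive G X 3)
    (hfix : ∀ g : G, ∀ a b c : X, a ≠ b → a ≠ c → b ≠ c → g • a = a → g • b = b → g • c = c → g = 1)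
    (w : X) {p f : ℕ} [Fact p.Prime] (hq : Fintype.card X = p ^ f + 1) :
    ∃ (o : X) (V : Type v) (_ : AddCommGroup V) (_ : Module (ZMod p) V) (_ : Finite V) (_ : Nontrivial V)
      (ρ : st2 G w o →* Module.End (ZMod p) V), o ≠ w ∧ Nat.card V = p ^ f ∧
      Function.Injective ρ ∧ (∀ g, g ≠ 1 → ∀ x : V, ρ g x = x → x = 0) ∧
      (∀ g : st2 G w o, g * g = 1 → g ≠ 1 → ρ g = -1) := by
  classical
  obtain ⟨NF, hcY, -, hall⟩ := exists_nearfield_coord hcard h3 hfix w
  let Y := SubMulAction.ofStabilizer G w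
  have hcardY : Nat.card Y = p ^ f := by
    have : Nat.card Y + 1 = Fintype.card X := hcY
    omega
  have hY : ∀ y : Y, (y : X) ≠ w := fun y => (SubMulAction.mem_ofStabilizer_iff G w).1 y.2
  have hz : ∀ a : Y, (0 : Y) * a = 0 := fun a => by
    have h := Cfsg.NearField.right_distrib (0 : Y) 0 a
    rw [add_zero] at h
    exact left_eq_add.mp h
  have hlin : ∀ g : st2 G w ((0 : Y) : X), ∃ a : Y,
      ∀ x : Y, (g : G) • (x : X) = ((x * a : Y) : X) := by
    intro g
    obtain ⟨a, b, -, hab⟩ := hall g g.2.1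
    have hb : b = 0 := by
      have := hab 0
      rw [g.2.2, hz, zero_add] at this
      exact (Subtype.ext this).symm
    exact ⟨a, fun x => by rw [hab, hb, add_zero]⟩
  choose a ha using hlin
  obtain ⟨V, i1, i2, i3, i4, ρ, hV, h1, h2, h3⟩ := exists_end (p := p) Fact.out hcardY a
    (fun g h => Subtype.ext (by
      have e := ha (g * h) 1
      rw [one_mul] at e
      rw [← e, Subgroup.coe_mul, mul_smul, ha, one_mul, ha]))
    (fun g hg x hx => by
      by_contra hx0
      refine hg (Subtype.ext (hfix g w ((0 : Y) : X) (x : X) (hY 0).symm (hY x).symm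
        (fun e => hx0 (Subtype.ext e).symm) g.2.1 g.2.2 ?_))
      rw [ha, hx])
    (Subtype.ext (by
      have e := ha 1 1
      rw [one_mul, OneMemClass.coe_one, one_smul] at e
      exact e.symm))
  exact ⟨((0 : Y) : X), V, i1, i2, i3, i4, ρ, hY 0, hV, h1, h2, h3⟩

/-- odd exponent: the two-point stabilisers are commutative -/
theorem comm_st2_of_odd {p f : ℕ} (hp : p.Prime) (hp2 : p ≠ 2) (hfo : Odd f)
    (hq : Fintype.card X = p ^ f + 1) (h6 : 6 ≤ Fintype.card X)
    (h3 : MulAction.IsMultiplyPretransitive G X 3)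
    (hfix : ∀ g : G, ∀ a b c : X, a ≠ b → a ≠ c → b ≠ c → g • a = a → g • b = b → g • c = c → g = 1)
    (w u : X) (hu : u ≠ w) : IsMulCommutative (st2 G w u) := by
  classical
  haveI := finite_of_sharp (G := G) (by omega : 3 ≤ Fintype.card X) hfix
  haveI : Fact p.Prime := ⟨hp⟩
  obtain ⟨o, V, iV, iM, iF, iN, ρ, ho, hV, hinj, hfpf, hneg⟩ :=
    exists_linear_coord (by omega) h3 hfix w hq
  obtain ⟨e1, he1w, he1o, he1u⟩ : ∃ c : X, c ≠ w ∧ c ≠ o ∧ True := by
    have h := Finset.card_compl ({w, o} : Finset X)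
    rw [Finset.card_pair (Ne.symm ho)] at h
    obtain ⟨c, hc⟩ := Finset.card_pos.1 (show 0 < ({w, o} : Finset X)ᶜ.card by omega)
    simp at hc
    exact ⟨c, hc.1, hc.2, trivial⟩
  suffices hH : ∀ x y : st2 G w o, x * y = y * x by
    obtain ⟨e2, he2w, he2u⟩ : ∃ c : X, c ≠ w ∧ c ≠ u := by
      have h := Finset.card_compl ({w, u} : Finset X)
      rw [Finset.card_pair (Ne.symm hu)] at h
      obtain ⟨c, hc⟩ := Finset.card_pos.1 (show 0 < ({w, u} : Finset X)ᶜ.card by omega)
      simp at hc
      exact ⟨c, hc.1, hc.2⟩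
    obtain ⟨t, t1, t2, -⟩ := exists_three h3 (Ne.symm ho) he1w.symm he1o.symm (Ne.symm hu) he2w.symm he2u.symm
    obtain ⟨e⟩ := st2_equiv (G := G) t t1 t2
    exact ⟨⟨fun x y => e.symm.injective (by rw [map_mul, map_mul, hH])⟩⟩
  have hcardH : Nat.card (st2 G w o) = p ^ f - 1 := by
    rw [card_st2 h3 hfix (by omega) (Ne.symm ho)]; omega
  have hpodd : Odd p := hp.odd_of_ne_two hp2
  have hf0 : 0 < f := hfo.pos
  have heven : Even (Fintype.card X) := by rw [hq]; exact Odd.add_one hpodd.pow
  obtain ⟨s, hsw, hso, hsc⟩ := exists_three h3 (Ne.symm ho) he1w.symm he1o.symm ho he1o.symm he1w.symm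
  -- the Sylow 2-subgroups are cyclic
  let T : Sylow 2 (st2 G w o) := default
  have huniq : ∀ g h : st2 G w o, g * g = 1 → g ≠ 1 → h * h = 1 → h ≠ 1 → g = h :=
    fun g h hg hg1 hh hh1 => hinj ((hneg g hg hg1).trans (hneg h hh hh1).symm)
  have hcyc : IsCyclic (T : Subgroup (st2 G w o)) := by
    rcases H2.cyclic_or_quaternion_of_unique (p := 2) T.2 (fun A B hA hB => by
      have key : ∀ C : Subgroup (T : Subgroup (st2 G w o)), Nat.card C = 2 → ∀ x ∈ C, x ≠ 1 →
          C = Subgroup.zpowers x ∧ ((x : st2 G w o) * (x : st2 G w o) = 1) := by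
        intro C hC x hx hx1
        have h2 : orderOf x = 2 := by
          rcases (Nat.dvd_prime Nat.prime_two).1 (hC ▸ C.orderOf_dvd_natCard hx) with h | h
          · exact absurd (orderOf_eq_one_iff.1 h) hx1
          · exact h
        refine ⟨(Subgroup.eq_of_le_of_card_ge (Subgroup.zpowers_le.2 hx)
          (by rw [hC, Nat.card_zpowers, h2])).symm, ?_⟩
        have hxsq := pow_orderOf_eq_one x
        rw [h2] at hxsq
        have := congrArg Subtype.val hxsq
        rwa [Subgroup.coe_pow, sq] at this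
      have C_ne : ∀ C : Subgroup (T : Subgroup (st2 G w o)), Nat.card C = 2 → ∃ x ∈ C, x ≠ 1 := by
        intro C hC
        have : C ≠ ⊥ := fun e => by rw [e, Subgroup.card_bot] at hC; omega
        simpa using (Subgroup.ne_bot_iff_exists_ne_one.1 this)
      obtain ⟨x, hx, hx1⟩ := C_ne A hA
      obtain ⟨y, hy, hy1⟩ := C_ne B hB
      obtain ⟨hAx, hx2⟩ := key A hA x hx hx1
      obtain ⟨hBy, hy2⟩ := key B hB y hy hy1
      have : x = y := Subtype.ext (huniq _ _ hx2 (fun e => hx1 (Subtype.ext e)) hy2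
        (fun e => hy1 (Subtype.ext e)))
      rw [hAx, hBy, this]) with h | ⟨-, n, ⟨e⟩⟩
    · exact h
    rcases Nat.eq_zero_or_pos n with h0 | h0
    · subst h0
      haveI : IsCyclic (QuaternionGroup (2 ^ 0)) := QuaternionGroup.quaternionGroup_one_isCyclic
      exact isCyclic_of_surjective e.symm.toMonoidHom e.symm.surjective
    exfalso
    -- two anticommuting elements
    obtain ⟨i, j, z, hz, hz1, hij⟩ : ∃ i j z : QuaternionGroup (2 ^ n), z * z = 1 ∧ z ≠ 1 ∧
        j * i = z * (i * j) := by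
      obtain ⟨k, hk, h4⟩ : ∃ k : ℕ, 2 * k = 2 ^ n ∧ 0 < k :=
        ⟨2 ^ (n - 1), by rw [← pow_succ']; congr 1; omega, Nat.two_pow_pos _⟩
      have hk4 : ((4 * k : ℕ) : ZMod (2 * 2 ^ n)) = 0 := by
        rw [show 4 * k = 2 * 2 ^ n by omega, ZMod.natCast_self]
      push_cast at hk4
      refine ⟨.a (k : ZMod _), .xa 0, .a ((2 * k : ℕ) : ZMod _), ?_, ?_, ?_⟩
      · rw [QuaternionGroup.a_mul_a, QuaternionGroup.one_def]
        congr 1
        push_cast
        linear_combination hk4
      · intro e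
        rw [QuaternionGroup.one_def, QuaternionGroup.a.injEq, ZMod.natCast_eq_zero_iff] at e
        have := Nat.le_of_dvd (by omega) e
        omega
      · rw [QuaternionGroup.xa_mul_a, QuaternionGroup.a_mul_xa, QuaternionGroup.a_mul_xa]
        congr 1
        push_cast
        linear_combination hk4
    let ψ : QuaternionGroup (2 ^ n) →* Module.End (ZMod p) V :=
      ρ.comp ((T : Subgroup (st2 G w o)).subtype.comp e.symm.toMonoidHom)
    have hψinj : Function.Injective ψ :=
      hinj.comp (Subtype.val_injective.comp e.symm.injective)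
    have hψz : ψ z = -1 := by
      refine hneg _ ?_ ?_
      · rw [← map_mul, hz, map_one]
      · intro e'
        exact hz1 (hψinj (by rw [map_one]; show ρ _ = 1; rw [e', map_one]))
    have hanti : ψ j * ψ i = -1 * (ψ i * ψ j) := by rw [← map_mul, hij, map_mul, map_mul, hψz]
    have hdet := congrArg LinearMap.det hanti
    have hu : ∀ q, LinearMap.det (ψ q) ≠ 0 := fun q h => by
      have := congrArg LinearMap.det ((ψ.map_mul q q⁻¹).symm.trans (by rw [mul_inv_cancel, map_one]))
      rw [map_mul, h, zero_mul, map_one] at this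
      exact zero_ne_one this
    have hfr : Module.finrank (ZMod p) V = f := by
      have := Module.natCard_eq_pow_finrank (K := ZMod p) (V := V)
      rw [hV, Nat.card_zmod] at this
      exact (Nat.pow_right_injective hp.two_le this).symm
    have hneg1 : LinearMap.det (-1 : Module.End (ZMod p) V) = -1 := by
      rw [show (-1 : Module.End (ZMod p) V) = (-1 : ZMod p) • (1 : Module.End (ZMod p) V) by simp,
        LinearMap.det_smul, map_one, mul_one, hfr, hfo.neg_one_pow]
    rw [map_mul, map_mul, map_mul, hneg1, mul_comm (LinearMap.det (ψ j))] at hdet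
    have h2 : (2 : ZMod p) * (LinearMap.det (ψ i) * LinearMap.det (ψ j)) = 0 := by
      linear_combination hdet
    refine mul_ne_zero ?_ (mul_ne_zero (hu i) (hu j)) h2
    intro h
    have : (p : ℕ) ∣ 2 := (ZMod.natCast_eq_zero_iff _ _).1 (by simpa using h)
    exact hp2 ((Nat.prime_dvd_prime_iff_eq hp Nat.prime_two).1 this)
  have hHeven : Even (Nat.card (st2 G w o)) := by
    rw [hcardH]; exact Nat.Odd.sub_odd hpodd.pow odd_one
  obtain ⟨A, hA2, hAc, -⟩ := exists_half heven h6 h3 hfix (Ne.symm ho) he1w.symm he1o.symm hsw hso hsc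
    (H65.exists_index_two_of_cyclic_sylow hHeven T hcyc)
  have hcardA : Nat.card A * 2 = p ^ f - 1 := by rw [← hcardH, ← hA2, Subgroup.card_mul_index]
  -- `A` is irreducible
  have hirr : ∀ W : Submodule (ZMod p) V, (∀ a : A, ∀ x ∈ W, (ρ.comp A.subtype) a x ∈ W) →
      W = ⊥ ∨ W = ⊤ := by
    intro W hW
    by_contra! h
    obtain ⟨x, hx, hx0⟩ := Submodule.exists_mem_ne_zero_of_ne_bot h.1
    have hle : Nat.card A + 1 ≤ Nat.card W := by
      rw [← Finite.card_option]
      refine Nat.card_le_card_of_injective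
        (fun o => o.elim (0 : W) fun a => ⟨_, hW a x hx⟩) ?_
      have hne : ∀ a : A, ρ (a : st2 G w o) x ≠ 0 := fun a e => hx0 (by
        have := congrArg (ρ ((a : st2 G w o)⁻¹)) e
        rwa [← Module.End.mul_apply, ← map_mul, inv_mul_cancel, map_one, map_zero] at this)
      rintro (_ | a) (_ | b) e'
      · rfl
      · exact absurd (congrArg Subtype.val e').symm (hne b)
      · exact absurd (congrArg Subtype.val e') (hne a)
      · have e'' : ρ (a : st2 G w o) x = ρ (b : st2 G w o) x := congrArg Subtype.val e'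
        by_contra hab
        refine hx0 (hfpf ((b : st2 G w o)⁻¹ * a) ?_ x ?_)
        · intro e3; exact hab (by rw [Subtype.ext (inv_mul_eq_one.1 e3).symm])
        · rw [map_mul, Module.End.mul_apply, e'', ← Module.End.mul_apply, ← map_mul, inv_mul_cancel,
            map_one]; rfl
    have hWc : Nat.card W * p ≤ p ^ f := by
      have hlt : Module.finrank (ZMod p) W < Module.finrank (ZMod p) V := Submodule.finrank_lt h.2
      have h1 := Module.natCard_eq_pow_finrank (K := ZMod p) (V := W)
      have h2 := Module.natCard_eq_pow_finrank (K := ZMod p) (V := V)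
      rw [Nat.card_zmod] at h1 h2
      rw [← hV, h1, h2, ← pow_succ]
      exact Nat.pow_le_pow_right hp.pos hlt
    have hp3 : 3 ≤ p := by
      have := hp.two_le; omega
    have : Nat.card W * 3 ≤ Nat.card W * p := Nat.mul_le_mul_left _ hp3
    have := Nat.one_le_pow f p hp.pos
    omega
  haveI := hAc
  obtain ⟨hAcyc, hdeg, hsemi⟩ := H60.irred_abelian f hV (ρ.comp A.subtype)
    (hinj.comp Subtype.val_injective) (fun a b => hAc.is_comm.comm a b) hirr
  obtain ⟨α, hα⟩ := hAcyc.exists_generator
  have hgen : ∀ i, α ^ p ^ i = α → ∀ a : A, a ^ p ^ i = a := by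
    intro i hi a
    obtain ⟨k, rfl⟩ := hα a
    rw [← zpow_natCast, ← zpow_mul, mul_comm, zpow_mul, zpow_natCast, hi]
  have hαq : α ^ p ^ f = α := by
    have h1 : α ^ (p ^ f - 1) = 1 := by
      rw [← hcardA, pow_mul, pow_card_eq_one', one_pow]
    calc α ^ p ^ f = α ^ (p ^ f - 1 + 1) := by
          rw [Nat.sub_add_cancel (Nat.one_le_pow f p hp.pos)]
      _ = α := by rw [pow_succ, h1, one_mul]
  have hdist : ∀ i k : ℕ, i < k → k < f → α ^ p ^ i ≠ α ^ p ^ k := by
    intro i k hik hk e
    have hco : Nat.Coprime (p ^ i) (orderOf α) := by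
      refine Nat.Coprime.pow_left _ ((Nat.Prime.coprime_iff_not_dvd hp).2 fun h => ?_)
      have h2 : p ∣ p ^ f - 1 := by
        rw [← hcardA]; exact dvd_mul_of_dvd_left (h.trans (orderOf_dvd_natCard _)) _
      have h3 : p ∣ p ^ f := dvd_pow_self p hf0.ne'
      have := Nat.dvd_sub h3 h2
      rw [Nat.sub_sub_self (Nat.one_le_pow f p hp.pos)] at this
      exact hp.not_dvd_one this
    have hk' : α ^ p ^ (k - i) = α := by
      have hinj' : ∀ x y : A, x ∈ Subgroup.zpowers α → y ∈ Subgroup.zpowers α → x ^ p ^ i = y ^ p ^ i → x = y := by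
        intro x y _ _ hxy
        exact (powCoprime (G := A) (n := p ^ i) (by
          rw [← orderOf_eq_card_of_forall_mem_zpowers hα]; exact hco.symm)).injective hxy
      refine hinj' _ _ (hα _) (hα _) ?_
      rw [← pow_mul, ← pow_add, Nat.sub_add_cancel hik.le, e]
    have := hdeg (k - i) (by omega) (hgen _ hk')
    omega
  have hA : A.Normal := Subgroup.normal_of_index_eq_two hA2
  have hcentral : ∀ h : st2 G w o, h * α = α * h := by
    intro h
    have hh2 : h ^ 2 ∈ A := by
      have := A.pow_index_mem h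
      rwa [hA2] at this
    obtain ⟨j, hj⟩ := mem_powers_iff_mem_zpowers.2 (hα ⟨h * α * h⁻¹, hA.conj_mem _ α.2 h⟩)
    have hj' : h * α * h⁻¹ = (α : st2 G w o) ^ j := (congrArg Subtype.val hj).symm
    obtain ⟨i, hi, hαi⟩ := hsemi α hdist j (ρ h)
      (fun x y e => by
        have := congrArg (ρ h⁻¹) e
        simpa [← Module.End.mul_apply, ← map_mul] using this)
      (by rw [MonoidHom.comp_apply, MonoidHom.comp_apply, ← map_mul, ← map_mul]
          congr 1
          show h * (α : st2 G w o) = ((α ^ j : A) : st2 G w o) * h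
          rw [Subgroup.coe_pow, ← hj', inv_mul_cancel_right])
    simp only at hj
    rw [hαi] at hj
    have hj2 : h * α * h⁻¹ = (α : st2 G w o) ^ p ^ i := (congrArg Subtype.val hj).symm
    rcases Nat.eq_zero_or_pos i with rfl | hi0
    · rw [pow_zero, pow_one] at hj2
      exact mul_inv_eq_iff_eq_mul.1 hj2
    exfalso
    have h2i : α ^ p ^ (i + i) = α := Subtype.ext (by
      rw [Subgroup.coe_pow, pow_add, pow_mul, ← hj2, conj_pow, ← hj2]
      have hc : h ^ 2 * (α : st2 G w o) = α * h ^ 2 :=
        congrArg Subtype.val (hAc.is_comm.comm ⟨h ^ 2, hh2⟩ α)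
      calc h * (h * α * h⁻¹) * h⁻¹ = h ^ 2 * α * (h ^ 2)⁻¹ := by rw [sq]; group
        _ = α := by rw [hc, mul_inv_cancel_right])
    obtain ⟨m, hm⟩ := hfo
    rcases Nat.lt_or_ge (i + i) f with h | h
    · have := hdeg (i + i) (by omega) (hgen _ h2i); omega
    · have h' : α ^ p ^ (i + i - f) = α := by
        rw [← Nat.sub_add_cancel h, pow_add, mul_comm, pow_mul, hαq] at h2i
        exact h2i
      have := hdeg (i + i - f) (by omega) (hgen _ h'); omega
  have hcentA : ∀ (h : st2 G w o) (a : A), h * a = a * h := by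
    intro h a
    obtain ⟨k, rfl⟩ := hα a
    rw [Subgroup.coe_zpow]
    exact (Commute.zpow_right (hcentral h) k).eq
  intro x y
  by_cases hx : x ∈ A
  · exact (hcentA y ⟨x, hx⟩).symm
  by_cases hy : y ∈ A
  · exact hcentA x ⟨y, hy⟩
  have hxy : x⁻¹ * y ∈ A := by
    rw [Subgroup.mul_mem_iff_of_index_two hA2, inv_mem_iff]; tauto
  have := hcentA x ⟨_, hxy⟩
  simp only [mul_inv_cancel_left] at this
  calc x * y = x * (x * (x⁻¹ * y)) := by rw [mul_inv_cancel_left]
    _ = x * ((x⁻¹ * y) * x) := by rw [mul_inv_cancel_left]; exact congrArg (x * ·) this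
    _ = y * x := by group

end H59
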