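import Mathlib

/-! Recognition of `C₃ ≀ S₃` (order 162). -/

set_option autoImplicit false
namespace H59

structure W162 {G : Type*} [Group G] (a b c s t : G) : Prop where
  a3 : a ^ 3 = 1
  b3 : b ^ 3 = 1
  c3 : c ^ 3 = 1
  s3 : s ^ 3 = 1
  t2 : t ^ 2 = 1
  ab : Commute a b
  ac : Commute a c
  bc : Commute b c
  sa : s * a = b * s
  sb : s * b = c * s
  sc : s * c = a * s
  ta : t * a = a * t
  tb : t * b = c * t
  tc : t * c = b * t
  ts : t * s = s⁻¹ * t

abbrev I162 := Fin 3 × Fin 3 × Fin 3 × Fin 3 × Fin 2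

def f162 {G : Type*} [Group G] (a b c s t : G) (q : I162) : G :=
  a ^ q.1.val * b ^ q.2.1.val * c ^ q.2.2.1.val * s ^ q.2.2.2.1.val * t ^ q.2.2.2.2.val

variable {G : Type*} [Group G] {a b c s t : G}

lemma pow_mod' {x : G} {n : ℕ} [NeZero n] (h : x ^ n = 1) (k : ℕ) (i : Fin n) (hk : k % n = i.val) :
    x ^ k = x ^ i.val := by
  conv_lhs => rw [← Nat.mod_add_div k n, pow_add, pow_mul, h, one_pow, mul_one, hk]

lemma semi_pow {u x y : G} (h : u * x = y * u) : ∀ (n : ℕ) (r : G), u * (x ^ n * r) = y ^ n * (u * r)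
  | 0, r => by simp
  | n + 1, r => by
    rw [pow_succ', pow_succ', mul_assoc, ← mul_assoc u, h, mul_assoc, semi_pow h n, mul_assoc]

lemma W162.mul_a (h : W162 a b c s t) (q : I162) :
    a * f162 a b c s t q = f162 a b c s t (q.1 + 1, q.2) := by
  obtain ⟨i, j, k, m, e⟩ := q
  simp only [f162]
  rw [← pow_mod' h.a3 (i.val + 1) (i + 1) (by simp [Fin.val_add]), pow_succ']
  simp only [mul_assoc]

lemma W162.mul_s (h : W162 a b c s t) (q : I162) :
    s * f162 a b c s t q = f162 a b c s t (q.2.2.1, q.1, q.2.1, q.2.2.2.1 + 1, q.2.2.2.2) := by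
  obtain ⟨i, j, k, m, e⟩ := q
  simp only [f162]
  rw [← pow_mod' h.s3 (m.val + 1) (m + 1) (by simp [Fin.val_add]), pow_succ']
  simp only [mul_assoc]
  rw [semi_pow h.sa, semi_pow h.sb, semi_pow h.sc]
  -- reorder the commuting part
  have e2 : ∀ r : G, b ^ i.val * (c ^ j.val * (a ^ k.val * r)) = a ^ k.val * (b ^ i.val * (c ^ j.val * r)) := by
    intro r
    have hcomm : Commute (b ^ i.val * c ^ j.val) (a ^ k.val) := by
      exact ((h.ab.symm.pow_pow _ _)).mul_left (h.ac.symm.pow_pow _ _)
    rw [← mul_assoc, ← mul_assoc, hcomm.eq, mul_assoc, mul_assoc]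
  rw [e2]

lemma W162.mul_t (h : W162 a b c s t) (q : I162) :
    t * f162 a b c s t q = f162 a b c s t (q.1, q.2.2.1, q.2.1, -q.2.2.2.1, q.2.2.2.2 + 1) := by
  obtain ⟨i, j, k, m, e⟩ := q
  simp only [f162]
  rw [← pow_mod' h.t2 (e.val + 1) (e + 1) (by simp [Fin.val_add]), pow_succ']
  have hm : s⁻¹ ^ m.val = s ^ (-m).val := by
    rw [inv_pow, inv_eq_iff_mul_eq_one, ← pow_add, pow_mod' h.s3 (m.val + (-m).val) 0 (by
      have := Fin.val_add m (-m); rw [add_neg_cancel] at this; exact this.symm)]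
    simp
  simp only [mul_assoc]
  rw [semi_pow h.ta, semi_pow h.tb, semi_pow h.tc, semi_pow h.ts, hm]
  have e2 : ∀ r : G, c ^ j.val * (b ^ k.val * r) = b ^ k.val * (c ^ j.val * r) := fun r => by
    rw [← mul_assoc, (h.bc.symm.pow_pow j.val k.val).eq, mul_assoc]
  rw [e2]

/-- Two groups of order 162 generated by such elements are isomorphic. -/
theorem W162.iso [Finite G] (h : W162 a b c s t) (hgen : Subgroup.closure {a, s, t} = ⊤)
    (hcard : Nat.card G = 162) {G' : Type*} [Group G'] [Finite G'] {a' b' c' s' t' : G'}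
    (h' : W162 a' b' c' s' t') (hinj' : Function.Injective (f162 a' b' c' s' t')) (hcard' : Nat.card G' = 162) :
    Nonempty (G ≃* G') := by
  classical
  set F := f162 a b c s t
  set F' := f162 a' b' c' s' t'
  have hcl : Submonoid.closure ({a, s, t} : Set G) = ⊤ := by
    rw [← Subgroup.closure_toSubmonoid_of_finite, hgen, Subgroup.top_toSubmonoid]
  have hall : ∀ x : G, x ∈ Submonoid.closure ({a, s, t} : Set G) := fun x => by rw [hcl]; trivial
  have hsurj : Function.Surjective F := by
    intro x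
    induction hall x using Submonoid.closure_induction_left with
    | one => exact ⟨(0, 0, 0, 0, 0), by simp [F, f162]⟩
    | mul_left g hg y _ ih =>
      obtain ⟨q, rfl⟩ := ih
      rcases hg with rfl | rfl | rfl
      · exact ⟨_, (h.mul_a q).symm⟩
      · exact ⟨_, (h.mul_s q).symm⟩
      · exact ⟨_, (h.mul_t q).symm⟩
  have hI : Nat.card I162 = 162 := by simp [Nat.card_eq_fintype_card]
  have hbij : Function.Bijective F := hsurj.bijective_of_nat_card_le (by rw [hI, hcard])
  have hbij' : Function.Bijective F' := hinj'.bijective_of_nat_card_le (by rw [hI, hcard'])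
  let φ : G ≃ G' := (Equiv.ofBijective F hbij).symm.trans (Equiv.ofBijective F' hbij')
  have hφ : ∀ q, φ (F q) = F' q := fun q => by
    show F' ((Equiv.ofBijective F hbij).symm (Equiv.ofBijective F hbij q)) = F' q
    rw [Equiv.symm_apply_apply]
  have hφ1 : φ 1 = 1 := by
    have h0 : F (0, 0, 0, 0, 0) = 1 := by simp [F, f162]
    rw [← h0, hφ]; simp [F', f162]
  have hstep : ∀ g ∈ ({a, s, t} : Set G), ∀ x, φ (g * x) = φ g * φ x := by
    have key : ∀ (g : G) (g' : G') (σ : I162 → I162), (∀ q, g * F q = F (σ q)) → (∀ q, g' * F' q = F' (σ q)) →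
        ∀ x, φ (g * x) = φ g * φ x := by
      intro g g' σ h1 h2 x
      have e : ∀ x, φ (g * x) = g' * φ x := by
        intro x
        obtain ⟨q, rfl⟩ := hsurj x
        rw [h1, hφ, hφ, h2]
      have : φ g = g' := by
        have := e 1
        rwa [mul_one, hφ1, mul_one] at this
      rw [this, e]
    intro g hg
    rcases hg with rfl | rfl | rfl
    · exact key _ _ _ h.mul_a h'.mul_a
    · exact key _ _ _ h.mul_s h'.mul_s
    · exact key _ _ _ h.mul_t h'.mul_t
  have hmul : ∀ g x, φ (g * x) = φ g * φ x := by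
    intro g
    induction hall g using Submonoid.closure_induction_left with
    | one => intro x; rw [one_mul, hφ1, one_mul]
    | mul_left g hg y _ ih =>
      intro x
      rw [mul_assoc, hstep g hg, ih, hstep g hg y, mul_assoc]
  exact ⟨{ φ with map_mul' := hmul }⟩

end H59
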